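/-
The finite checks on the configurations.
-/
import Cfsg.Agent.Lib.Geo.AschThree.Data

set_option autoImplicit false
set_option maxRecDepth 20000

namespace CfsgLib.Geo.AschThree

variable {p : ℕ} [NeZero p]

/-- The coded elements of norm one. -/
def normOne (p : ℕ) [NeZero p] : List (Cd p) := (allC p).filter fun x => cmul x (cconj x) == c1

def e0v : CV p := (c1, c0, c0)
def e1v : CV p := (c0, c1, c0)
def e2v : CV p := (c0, c0, c1)

/-- A permutation of the coordinate vectors with two scalars. -/
def monM (u v w : CV p) (x y : Cd p) : CM p := cols u (smulV x v) (smulV y w)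

/-- Monomial matrices keep the configuration. -/
def monKeep (C : Cert p) : Bool :=
  [((e0v : CV p), (e1v : CV p), (e2v : CV p)), (e0v, e2v, e1v), (e1v, e0v, e2v), (e1v, e2v, e0v), (e2v, e0v, e1v),
    (e2v, e1v, e0v)].all fun t => (normOne p).all fun x => (normOne p).all fun y =>
      let a := monM t.1 t.2.1 t.2.2 x y
      cmul (det3 a) (det3 a) != c1 || keeps C a

/-- The vectors with coordinates in the prime field and square one. -/
def primeUnits (p : ℕ) [NeZero p] : List (CV p) :=
  (List.finRange p).flatMap fun a => (List.finRange p).flatMap fun b =>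
    ((List.finRange p).filter fun c => dot ((a, 0), (b, 0), (c, 0)) ((a, 0), (b, 0), (c, 0)) == (c1 : Cd p)).map
      fun c => ((a, 0), (b, 0), (c, 0))

/-- Rotations over the prime field keep the configuration. -/
def ratKeep (C : Cert p) : Bool :=
  (primeUnits p).all fun u => (primeUnits p).all fun v => dot u v != c0 || (primeUnits p).all fun w =>
    dot u w != c0 || dot v w != c0 || det3 (cols u v w) != c1 || keeps C (cols u v w)

/-- The trace. -/
def ctr (a : CM p) : Cd p := cadd (cadd a.1.1 a.2.1.2.1) a.2.2.2.2

/-- The powers. -/
def powM (a : CM p) : ℕ → CM p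
  | 0 => onem
  | n + 1 => mulM (powM a n) a

/-- The two generators of the normaliser of an element of order seven. -/
def fieldData (x f b : CM p) : Bool :=
  isSU x && isSU f && powM x 7 == onem && x != onem && mulM f x == mulM (powM x 2) f && powM f 3 == onem &&
    mulM (cols e0v (mulV x e0v) (mulV x (mulV x e0v))) b == onem &&
    ([3, 5, 6].all fun i => ctr (powM x i) != ctr x)

/-- The centraliser and its translates keep the configuration. -/
def fieldKeep (C : Cert p) (x f b : CM p) : Bool :=
  (unitV p).all fun u =>
    let a := mulM (cols u (mulV x u) (mulV x (mulV x u))) b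
    !(isSU a) || mulM a x != mulM x a || (keeps C a && keeps C (mulM f a) && keeps C (mulM f (mulM f a)))

/-- The distinguished element is outside the normaliser. -/
def fieldOut (C : Cert p) (x : CM p) : Bool :=
  (List.range 7).all fun i => mulM C.w x != mulM (powM x i) C.w

/-- The diagonal generator. -/
def heisA (l : Cd p) : CM p := cols e0v (smulV l e1v) (smulV (cmul l l) e2v)

/-- The cyclic generator. -/
def heisB : CM p := cols e1v e2v e0v

/-- The twenty-seven elements. -/
def heisList (l : Cd p) : List (CM p) :=
  (List.range 3).flatMap fun i => (List.range 3).flatMap fun j => (List.range 3).map fun k =>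
    mulM (powM (cols (smulV l e0v) (smulV l e1v) (smulV l e2v)) k) (mulM (powM (heisA l) i) (powM heisB j))

/-- The closure properties. -/
def heisData (l : Cd p) : Bool :=
  cmul (cmul l l) l == c1 && l != c1 && (heisList l).contains onem && (heisList l).contains (heisA l) &&
    (heisList l).contains heisB && isSU (heisA l) && isSU (heisB : CM p) &&
    (heisList l).all fun a => (heisList l).contains (cadj a) && (heisList l).all fun b => (heisList l).contains (mulM a b)

/-- The sum of two vectors. -/
def vadd (u v : CV p) : CV p := (cadd u.1 v.1, cadd u.2.1 v.2.1, cadd u.2.2 v.2.2)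

/-- The value of three times the projection on the fixed point of an element of order three. -/
def sumV (y : CM p) (e : CV p) : CV p := vadd e (vadd (mulV y e) (mulV y (mulV y e)))

/-- The code of three. -/
def c3 : Cd p := cadd c1 (cadd c1 c1)

/-- The fixed vectors of the non-trivial elements. -/
def heisPoints (l : Cd p) (U : List (CV p)) : Bool :=
  (U.all fun v => dot v (vconj v) == c1) && (heisList l).all fun y => y == onem ||
    (sumV y e0v == (c0, c0, c0) && sumV y e1v == (c0, c0, c0) && sumV y e2v == (c0, c0, c0)) || U.any fun v =>
    sumV y e0v == smulV (cmul c3 (cconj v.1)) v && sumV y e1v == smulV (cmul c3 (cconj v.2.1)) v &&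
      sumV y e2v == smulV (cmul c3 (cconj v.2.2)) v

/-- The normaliser keeps the configuration. -/
def heisKeep (C : Cert p) (l : Cd p) (U : List (CV p)) : Bool :=
  U.all fun u => (heisList l).all fun z =>
    let a := cols u (mulV z u) (mulV z (mulV z u))
    mulM (cadj a) a != onem || cmul (det3 a) (det3 a) != c1 ||
      !((heisList l).contains (mulM (mulM a (heisA l)) (cadj a))) || keeps C a

/-- The distinguished element is outside the normaliser. -/
def heisOut (C : Cert p) (l : Cd p) : Bool :=
  !((heisList l).contains (mulM (mulM C.w (heisA l)) (cadj C.w))) ||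
    !((heisList l).contains (mulM (mulM C.w heisB) (cadj C.w)))

end CfsgLib.Geo.AschThree
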