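/-
The normalisers of elements of order seven keep the configurations.
-/
import Cfsg.Agent.Lib.Geo.AschThree.Checks

set_option autoImplicit false
set_option maxRecDepth 20000

namespace CfsgLib.Geo.AschThree

theorem fieldData_five : fieldData seedFive twistFive basisFive = true := by decide +kernel
theorem fieldData_three : fieldData seedThree twistThree basisThree = true := by decide +kernel
theorem fieldKeep_five : fieldKeep fieldFive seedFive twistFive basisFive = true := by decide +kernel
theorem fieldKeep_three : fieldKeep fieldThree seedThree twistThree basisThree = true := by decide +kernel
theorem fieldOut_five : fieldOut fieldFive seedFive = true := by decide +kernel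
theorem fieldOut_three : fieldOut fieldThree seedThree = true := by decide +kernel

end CfsgLib.Geo.AschThree
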