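/-
Monomial matrices keep the configuration.
-/
import Cfsg.Agent.Lib.Geo.AschThree.Checks

set_option autoImplicit false
set_option maxRecDepth 20000

namespace CfsgLib.Geo.AschThree

theorem monKeep_five : monKeep monFive = true := by decide +kernel

end CfsgLib.Geo.AschThree
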