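/-
The configurations are valid.
-/
import Cfsg.Agent.Lib.Geo.AschThree.Checks

set_option autoImplicit false
set_option maxRecDepth 20000

namespace CfsgLib.Geo.AschThree

theorem monFive_ok : monFive.Ok := ⟨by decide +kernel, by decide +kernel, by decide +kernel, by decide +kernel, by decide +kernel⟩
theorem ratFive_ok : ratFive.Ok := ⟨monFive_ok.bits_eq, by decide +kernel, by decide +kernel, monFive_ok.t_su, monFive_ok.t_move⟩
theorem fieldFive_ok : fieldFive.Ok := ⟨monFive_ok.bits_eq, by decide +kernel, by decide +kernel, monFive_ok.t_su, monFive_ok.t_move⟩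
theorem extraFive_ok : extraFive.Ok := ⟨by decide +kernel, by decide +kernel, by decide +kernel, by decide +kernel, by decide +kernel⟩
theorem fieldThree_ok : fieldThree.Ok := ⟨by decide +kernel, by decide +kernel, by decide +kernel, by decide +kernel, by decide +kernel⟩
theorem ratThree_ok : ratThree.Ok := ⟨by decide +kernel, by decide +kernel, by decide +kernel, by decide +kernel, by decide +kernel⟩
theorem monW_five : (monFive.w.1.1 != c0 && monFive.w.2.1.1 != c0) = true := by decide +kernel

end CfsgLib.Geo.AschThree
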