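/-
Rotations keep the configurations.
-/
import Cfsg.Agent.Lib.Geo.AschThree.Checks

set_option autoImplicit false
set_option maxRecDepth 20000

namespace CfsgLib.Geo.AschThree

theorem ratKeep_five : ratKeep ratFive = true := by decide +kernel
theorem ratKeep_three : ratKeep ratThree = true := by decide +kernel

end CfsgLib.Geo.AschThree
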