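/-
Coded elements, vectors and matrices over the fields with 9 and 25 elements.
-/
import Mathlib.Data.ZMod.Defs
import Mathlib.Algebra.Order.Ring.Nat

set_option autoImplicit false

namespace CfsgLib.Geo.AschThree

/-- A coded element `a + b√2`. -/
abbrev Cd (p : ℕ) := Fin p × Fin p
/-- A coded vector. -/
abbrev CV (p : ℕ) := Cd p × Cd p × Cd p
/-- A coded matrix, by rows. -/
abbrev CM (p : ℕ) := CV p × CV p × CV p

variable {p : ℕ} [NeZero p]


def c0 : Cd p := (0, 0)
def c1 : Cd p := (1, 0)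
def cadd (x y : Cd p) : Cd p :=
  (⟨(x.1.val + y.1.val) % p, Nat.mod_lt _ (NeZero.pos p)⟩, ⟨(x.2.val + y.2.val) % p, Nat.mod_lt _ (NeZero.pos p)⟩)
def cneg (x : Cd p) : Cd p := (-x.1, -x.2)
def cmul (x y : Cd p) : Cd p :=
  (⟨(x.1.val * y.1.val + 2 * (x.2.val * y.2.val)) % p, Nat.mod_lt _ (NeZero.pos p)⟩,
    ⟨(x.1.val * y.2.val + x.2.val * y.1.val) % p, Nat.mod_lt _ (NeZero.pos p)⟩)
def cconj (x : Cd p) : Cd p := (x.1, -x.2)
def dot (v w : CV p) : Cd p := cadd (cadd (cmul v.1 w.1) (cmul v.2.1 w.2.1)) (cmul v.2.2 w.2.2)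
def vconj (v : CV p) : CV p := (cconj v.1, cconj v.2.1, cconj v.2.2)
def smulV (c : Cd p) (v : CV p) : CV p := (cmul c v.1, cmul c v.2.1, cmul c v.2.2)
def mulV (a : CM p) (v : CV p) : CV p := (dot a.1 v, dot a.2.1 v, dot a.2.2 v)
def transp (a : CM p) : CM p :=
  ((a.1.1, a.2.1.1, a.2.2.1), (a.1.2.1, a.2.1.2.1, a.2.2.2.1), (a.1.2.2, a.2.1.2.2, a.2.2.2.2))
def cadj (a : CM p) : CM p := let t := transp a; (vconj t.1, vconj t.2.1, vconj t.2.2)
def mulM (a b : CM p) : CM p :=
  let t := transp b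
  ((dot a.1 t.1, dot a.1 t.2.1, dot a.1 t.2.2), (dot a.2.1 t.1, dot a.2.1 t.2.1, dot a.2.1 t.2.2),
    (dot a.2.2 t.1, dot a.2.2 t.2.1, dot a.2.2 t.2.2))
def onem : CM p := ((c1, c0, c0), (c0, c1, c0), (c0, c0, c1))
/-- The matrix with three given columns. -/
def cols (u v w : CV p) : CM p := transp (u, v, w)
def det3 (a : CM p) : Cd p :=
  let m := fun x y z => cmul (cmul x y) z
  cadd (cadd (cadd (cadd (cadd (m a.1.1 a.2.1.2.1 a.2.2.2.2) (cneg (m a.1.1 a.2.1.2.2 a.2.2.2.1)))
    (cneg (m a.1.2.1 a.2.1.1 a.2.2.2.2))) (m a.1.2.1 a.2.1.2.2 a.2.2.1)) (m a.1.2.2 a.2.1.1 a.2.2.2.1))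
    (cneg (m a.1.2.2 a.2.1.2.1 a.2.2.1))

/-- Unitarity and determinant one. -/
def isSU (a : CM p) : Bool := mulM (cadj a) a == onem && det3 a == c1

/-- All coded elements. -/
def allC (p : ℕ) : List (Cd p) := (List.finRange p).flatMap fun a => (List.finRange p).map fun b => (a, b)

/-- All coded vectors of norm one. -/
def unitV (p : ℕ) [NeZero p] : List (CV p) :=
  (allC p).flatMap fun a => (allC p).flatMap fun b =>
    ((allC p).filter fun c => dot (a, b, c) (vconj (a, b, c)) == c1).map fun c => (a, b, c)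

/-- The index of a coded vector. -/
def idx (v : CV p) : ℕ :=
  (v.1.1.val + p * v.1.2.val) + p * p * ((v.2.1.1.val + p * v.2.1.2.val) + p * p * (v.2.2.1.val + p * v.2.2.2.val))

/-- A configuration of points with the two test elements. -/
structure Cert (p : ℕ) where
  reps : List (CV p)
  bits : ℕ
  w : CM p
  t : CM p

/-- The vector is proportional to a listed one. -/
def propTo (C : Cert p) (u : CV p) : Bool := C.bits.testBit (idx u)

/-- All non-zero multiples of the listed vectors. -/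
def mults (C : Cert p) : List (CV p) := C.reps.flatMap fun v => ((allC p).filter fun c => c != c0).map fun c => smulV c v

/-- The coded matrix maps the configuration into itself. -/
def keeps (C : Cert p) (a : CM p) : Bool := C.reps.all fun v => propTo C (mulV a v)

/-- The bit set of a list. -/
def bitsOf (l : List (CV p)) : ℕ := l.foldr (fun v n => 2 ^ idx v ||| n) 0

/-- The configuration is valid: `w` is an element keeping it, `t` one moving it. -/
structure Cert.Ok (C : Cert p) : Prop where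
  bits_eq : C.bits = bitsOf (mults C)
  w_su : isSU C.w = true
  w_keep : keeps C C.w = true
  t_su : isSU C.t = true
  t_move : (C.reps.any fun v => C.reps.all fun r => (allC p).all fun c => smulV c r != mulV C.t v) = true

end CfsgLib.Geo.AschThree
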