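/-
Coded arithmetic in the fields with 9 and 25 elements, and overgroups given by sets of points of the plane.
-/
import Cfsg.Agent.Lib.Geo.AschThree.Codes
import Cfsg.Agent.Lib.Geo.Asch.UnitSixLines
import Cfsg.Agent.Lib.Geo.Asch.UnitFour

set_option autoImplicit false

namespace CfsgLib.Geo.AschThree

open Matrix Cfsg.Geo
open CfsgLib.Geo.Asch (IsQPow SUg mem_GU_of_mul keepSubgroup inv_mulVec_cancel)

variable {p : ℕ} [NeZero p]


omit [NeZero p] in
theorem mem_allC (x : Cd p) : x ∈ allC p := by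
  simp only [allC, List.mem_flatMap, List.mem_map, List.mem_finRange, true_and]
  exact ⟨x.1, x.2, rfl⟩

theorem mem_unitV {v : CV p} (h : dot v (vconj v) = c1) : v ∈ unitV p := by
  simp only [unitV, List.mem_flatMap, List.mem_map, List.mem_filter]
  exact ⟨v.1, mem_allC _, v.2.1, mem_allC _, v.2.2, ⟨mem_allC _, by simpa using h⟩, rfl⟩

omit [NeZero p] in
theorem idx_injective : Function.Injective (idx (p := p)) := by
  rintro ⟨⟨a, b⟩, ⟨c, d⟩, ⟨e, f⟩⟩ ⟨⟨a', b'⟩, ⟨c', d'⟩, ⟨e', f'⟩⟩ h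
  have key : ∀ (x x' y y' n : ℕ), x < n → x' < n → x + n * y = x' + n * y' → x = x' ∧ y = y' := by
    intro x x' y y' n hx hx' e
    have hn : 0 < n := by omega
    have h1 := congrArg (· / n) e
    simp only [Nat.add_mul_div_left _ _ hn, Nat.div_eq_of_lt hx, Nat.div_eq_of_lt hx', zero_add] at h1
    subst h1
    omega
  have lt : ∀ x y : Fin p, x.val + p * y.val < p * p := fun x y => by
    have := y.isLt
    have hx := x.isLt
    calc x.val + p * y.val < p + p * y.val := by omega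
      _ = p * (y.val + 1) := by ring
      _ ≤ p * p := Nat.mul_le_mul_left _ this
  obtain ⟨h1, h2⟩ := key _ _ _ _ _ (lt a b) (lt a' b') h
  obtain ⟨h3, h4⟩ := key _ _ _ _ _ (lt c d) (lt c' d') h2
  obtain ⟨ea, eb⟩ := key _ _ _ _ _ a.isLt a'.isLt h1
  obtain ⟨ec, ed⟩ := key _ _ _ _ _ c.isLt c'.isLt h3
  obtain ⟨ee, ef⟩ := key _ _ _ _ _ e.isLt e'.isLt h4
  exact Prod.ext (Prod.ext (Fin.ext ea) (Fin.ext eb))
    (Prod.ext (Prod.ext (Fin.ext ec) (Fin.ext ed)) (Prod.ext (Fin.ext ee) (Fin.ext ef)))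

omit [NeZero p] in
theorem testBit_bitsOf (l : List (CV p)) (v : CV p) : (bitsOf l).testBit (idx v) = true → v ∈ l := by
  induction l with
  | nil => simp [bitsOf]
  | cons w l ih =>
    intro h
    rw [bitsOf, List.foldr_cons, Nat.testBit_or, Bool.or_eq_true, Nat.testBit_two_pow] at h
    rcases h with h | h
    · exact List.mem_cons.2 (.inl (idx_injective (decide_eq_true_iff.1 h)).symm)
    · exact List.mem_cons_of_mem _ (ih h)

section Decode

variable {F : Type*} [Field F]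

/-- Decoding an element. -/
def cd (r : F) (x : Cd p) : F := (x.1.val : F) + (x.2.val : F) * r
/-- Decoding a vector. -/
def toV (r : F) (v : CV p) : Fin 3 → F := ![cd r v.1, cd r v.2.1, cd r v.2.2]
/-- Decoding a matrix. -/
def toM (r : F) (a : CM p) : Matrix (Fin 3) (Fin 3) F := Matrix.of ![toV r a.1, toV r a.2.1, toV r a.2.2]

/-- A square root of two, conjugate to its negative. -/
structure IsRoot (σ : F ≃+* F) (p : ℕ) (r : F) : Prop where
  char : CharP F p
  odd : p ≠ 2
  sq : r * r = 2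
  conj : σ r = -r
  bij : Function.Bijective (cd (p := p) r)

theorem exists_root [Fintype F] {σ : F ≃+* F} (hq : IsQPow σ p) (hF : Fintype.card F = p ^ 2) (hp : p = 3 ∨ p = 5) :
    ∃ r : F, IsRoot σ p r := by
  have hpp : p.Prime := by rcases hp with rfl | rfl <;> norm_num
  haveI : Fact p.Prime := ⟨hpp⟩
  obtain ⟨p', hp'⟩ := CharP.exists F
  haveI := hp'
  obtain ⟨f, hf1, hf⟩ := FiniteField.card F p'
  obtain rfl : p = p' := by
    have h1 : p' ∣ p ^ 2 := by rw [← hF, hf]; exact dvd_pow_self _ f.pos.ne'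
    exact ((Nat.prime_dvd_prime_iff_eq hf1 hpp).1 (hf1.dvd_of_dvd_pow h1)).symm
  have hne : ∀ n : ℕ, 0 < n → n < p → (n : F) ≠ 0 := fun n h1 h2 h3 =>
    absurd (Nat.le_of_dvd h1 ((CharP.cast_eq_zero_iff F p n).1 h3)) (by omega)
  have h2 : (2 : F) ≠ 0 := by
    exact_mod_cast hne 2 (by norm_num) (by omega)
  have hchar : ringChar F ≠ 2 := by
    rw [ringChar.eq F p]; omega
  obtain ⟨r, hr⟩ : IsSquare (2 : F) := by
    rw [FiniteField.isSquare_iff hchar h2, hF]
    rcases hp with rfl | rfl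
    · have : ((3 : ℕ) : F) = 0 := CharP.cast_eq_zero F 3
      norm_num at this ⊢
      linear_combination (5 : F) * this
    · have : ((5 : ℕ) : F) = 0 := CharP.cast_eq_zero F 5
      norm_num at this ⊢
      linear_combination (819 : F) * this
  have hr0 : r ≠ 0 := fun e => h2 (by rw [hr, e, zero_mul])
  have hσ : σ r = -r := by
    have h3 : σ r * σ r = r * r := by rw [← map_mul, ← hr, map_ofNat]
    rcases mul_self_eq_mul_self_iff.1 h3 with h | h
    · exfalso
      rw [hq.eq_pow] at h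
      have hpow : r ^ (p - 1) = 1 := by
        apply mul_right_cancel₀ hr0
        rw [← pow_succ, Nat.sub_add_cancel hpp.one_lt.le, h, one_mul]
      rcases hp with rfl | rfl
      · apply one_ne_zero (α := F)
        linear_combination hpow + hr
      · have h5 : ((5 : ℕ) : F) = 0 := CharP.cast_eq_zero F 5
        have h30 : ((3 : ℕ) : F) ≠ 0 := hne 3 (by norm_num) (by norm_num)
        push_cast at h30
        refine h30 ?_
        linear_combination hpow + (r * r + 2) * hr
    · exact h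
  have hnat : ∀ n : ℕ, σ (n : F) = (n : F) := fun n => map_natCast σ n
  refine ⟨r, inferInstance, by omega, hr.symm, hσ, (Fintype.bijective_iff_injective_and_card _).2 ⟨?_, ?_⟩⟩
  · rintro ⟨a, b⟩ ⟨a', b'⟩ e
    simp only [cd] at e
    have e' := congrArg σ e
    simp only [map_add, map_mul, hnat, hσ] at e'
    have hb : ((b.val : F) - b'.val) * r * 2 = 0 := by linear_combination e - e'
    simp only [mul_eq_zero, h2, hr0, or_false, sub_eq_zero] at hb
    have ha : (a.val : F) = a'.val := by rw [hb] at e; exact add_right_cancel e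
    have inj : ∀ x y : Fin p, (x.val : F) = y.val → x = y := fun x y h =>
      Fin.ext (CharP.natCast_injOn_Iio F p (Set.mem_Iio.2 x.isLt) (Set.mem_Iio.2 y.isLt) h)
    rw [inj _ _ ha, inj _ _ hb]
  · rw [Fintype.card_prod, Fintype.card_fin, hF, pow_two]

variable {σ : F ≃+* F} {r : F} (hr : IsRoot σ p r)
include hr

omit hr [NeZero p] in
theorem cd_def (x : Cd p) : cd r x = (x.1.val : F) + (x.2.val : F) * r := rfl

theorem val_add (a b : Fin p) : ((a + b).val : F) = a.val + b.val := by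
  haveI := hr.char
  rw [Fin.val_add, ← CharP.cast_eq_mod, Nat.cast_add]

theorem val_mul (a b : Fin p) : ((a * b).val : F) = a.val * b.val := by
  haveI := hr.char
  rw [Fin.val_mul, ← CharP.cast_eq_mod, Nat.cast_mul]

theorem val_zero : ((0 : Fin p).val : F) = 0 := by simp

theorem val_one : ((1 : Fin p).val : F) = 1 := by
  haveI := hr.char
  rw [Fin.val_one', ← CharP.cast_eq_mod, Nat.cast_one]

theorem val_neg (a : Fin p) : ((-a).val : F) = -(a.val : F) := by
  have h := val_add hr a (-a)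
  rw [add_neg_cancel, val_zero hr] at h
  linear_combination -h

theorem cd_c0 : cd r (c0 : Cd p) = 0 := by simp [cd, c0]

theorem cd_c1 : cd r (c1 : Cd p) = 1 := by
  simp only [cd, c1, val_one hr, val_zero hr, zero_mul, add_zero]

theorem cd_add (x y : Cd p) : cd r (cadd x y) = cd r x + cd r y := by
  haveI := hr.char
  simp only [cd, cadd, ← CharP.cast_eq_mod, Nat.cast_add]; ring

theorem cd_neg (x : Cd p) : cd r (cneg x) = -cd r x := by
  simp only [cd, cneg, val_neg hr]; ring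

theorem cd_mul (x y : Cd p) : cd r (cmul x y) = cd r x * cd r y := by
  haveI := hr.char
  simp only [cd, cmul, ← CharP.cast_eq_mod, Nat.cast_add, Nat.cast_mul, Nat.cast_ofNat]
  linear_combination -((x.2.val : F) * y.2.val) * hr.sq

theorem cd_conj (x : Cd p) : cd r (cconj x) = σ (cd r x) := by
  simp [cd, cconj, val_neg hr, hr.conj, map_natCast]

theorem toV_conj (v : CV p) : toV r (vconj v) = fun i => σ (toV r v i) := by
  funext i
  fin_cases i <;> simp [toV, vconj, cd_conj hr]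

theorem dot_eq (v w : CV p) : cd r (dot v w) = toV r v ⬝ᵥ toV r w := by
  simp [dot, toV, dotProduct, Fin.sum_univ_three, cd_add hr, cd_mul hr]

theorem toV_smul (c : Cd p) (v : CV p) : toV r (smulV c v) = cd r c • toV r v := by
  funext i
  fin_cases i <;> simp [toV, smulV, cd_mul hr]

theorem toV_mulV (a : CM p) (v : CV p) : toV r (mulV a v) = toM r a *ᵥ toV r v := by
  funext i
  fin_cases i <;> simp [mulV, toV, toM, Matrix.mulVec, dot_eq hr, dotProduct, Fin.sum_univ_three]

theorem toV_injective : Function.Injective (toV (p := p) r) := by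
  rintro ⟨a, b, c⟩ ⟨a', b', c'⟩ e
  have h0 := hr.bij.1 (congrFun e 0)
  have h1 := hr.bij.1 (congrFun e 1)
  have h2 := hr.bij.1 (congrFun e 2)
  simp only [Prod.mk.injEq]
  exact ⟨h0, h1, h2⟩

theorem exists_toV (x : Fin 3 → F) : ∃ v : CV p, toV r v = x := by
  obtain ⟨a, ha⟩ := hr.bij.2 (x 0)
  obtain ⟨b, hb⟩ := hr.bij.2 (x 1)
  obtain ⟨c, hc⟩ := hr.bij.2 (x 2)
  refine ⟨(a, b, c), ?_⟩
  funext i
  fin_cases i <;> simpa [toV]

theorem toM_transp (a : CM p) : toM r (transp a) = (toM r a)ᵀ := by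
  ext i j
  fin_cases i <;> fin_cases j <;> simp [toM, transp, toV]

theorem toM_cadj (a : CM p) : toM r (cadj a) = Asch.adj σ (toM r a) := by
  ext i j
  fin_cases i <;> fin_cases j <;> simp [toM, cadj, transp, vconj, toV, Asch.adj, cd_conj hr]

theorem toM_one : toM r (onem : CM p) = 1 := by
  ext i j
  fin_cases i <;> fin_cases j <;> simp [toM, onem, toV, cd_c0 hr, cd_c1 hr]

theorem toM_mul (a b : CM p) : toM r (mulM a b) = toM r a * toM r b := by
  ext i j
  fin_cases i <;> fin_cases j <;>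
    simp [toM, mulM, transp, toV, Matrix.mul_apply, dot_eq hr, dotProduct, Fin.sum_univ_three]

theorem toM_det (a : CM p) : (toM r a).det = cd r (det3 a) := by
  simp [Matrix.det_fin_three, toM, toV, det3, cd_add hr, cd_neg hr, cd_mul hr]
  ring

theorem exists_toM (A : Matrix (Fin 3) (Fin 3) F) : ∃ a : CM p, toM r a = A := by
  obtain ⟨u, hu⟩ := exists_toV hr (A 0)
  obtain ⟨v, hv⟩ := exists_toV hr (A 1)
  obtain ⟨w, hw⟩ := exists_toV hr (A 2)
  refine ⟨(u, v, w), ?_⟩
  ext i j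
  fin_cases i <;> simp [toM, hu, hv, hw]

theorem toM_injective : Function.Injective (toM (p := p) r) := by
  rintro ⟨a, b, c⟩ ⟨a', b', c'⟩ e
  simp only [Prod.mk.injEq]
  exact ⟨toV_injective hr (congrFun e 0), toV_injective hr (congrFun e 1), toV_injective hr (congrFun e 2)⟩

theorem toM_cols_col (u v w : CV p) :
    (toM r (cols u v w)) *ᵥ Pi.single 0 1 = toV r u ∧ (toM r (cols u v w)) *ᵥ Pi.single 1 1 = toV r v ∧
      (toM r (cols u v w)) *ᵥ Pi.single 2 1 = toV r w := by
  refine ⟨?_, ?_, ?_⟩ <;> funext i <;> fin_cases i <;> simp [cols, transp, toM, toV]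

/-- The code of a unitary matrix of determinant one passes the test. -/
theorem isSU_of_mem (hq : IsQPow σ p) {g : GL (Fin 3) F} (hg : g ∈ SUg 3 F p) {a : CM p}
    (ha : toM r a = (g : Matrix (Fin 3) (Fin 3) F)) : isSU a = true := by
  rw [isSU, Bool.and_eq_true, beq_iff_eq, beq_iff_eq]
  constructor
  · apply toM_injective hr
    rw [toM_mul hr, toM_cadj hr, toM_one hr, ha, Asch.adj_gu hq hg.1, Units.inv_mul]
  · apply hr.bij.1
    rw [← toM_det hr, ha, cd_c1 hr]
    exact congrArg Units.val (show Matrix.GeneralLinearGroup.det g = 1 from hg.2)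

/-- A coded unitary matrix of determinant one. -/
theorem exists_SU [Fintype F] (hq : IsQPow σ p) {a : CM p} (ha : isSU a = true) :
    ∃ g : GL (Fin 3) F, g ∈ SUg 3 F p ∧ (g : Matrix (Fin 3) (Fin 3) F) = toM r a := by
  rw [isSU, Bool.and_eq_true, beq_iff_eq, beq_iff_eq] at ha
  have h1 : Asch.adj σ (toM r a) * toM r a = 1 := by
    rw [← toM_cadj hr, ← toM_mul hr, ha.1, toM_one hr]
  let g : GL (Fin 3) F := ⟨toM r a, Asch.adj σ (toM r a), mul_eq_one_comm.1 h1, h1⟩
  refine ⟨g, ⟨mem_GU_of_mul hq ?_, Units.ext ?_⟩, rfl⟩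
  · have h2 := congrArg (fun M : Matrix (Fin 3) (Fin 3) F => Mᵀ) h1
    simpa [Asch.adj] using h2
  · show (toM r a).det = 1
    rw [toM_det hr, ha.2, cd_c1 hr]

/-- The points of a configuration. -/
def IsPt (C : Cert p) (r : F) (x : Fin 3 → F) : Prop := ∃ v ∈ C.reps, ∃ c : F, c ≠ 0 ∧ x = c • toV r v

theorem isPt_of_propTo {C : Cert p} (hC : C.bits = bitsOf (mults C)) {u : CV p} (h : propTo C u = true) :
    IsPt C r (toV r u) := by
  have h' : C.bits.testBit (idx u) = true := h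
  rw [hC] at h'
  have hm := testBit_bitsOf _ _ h'
  simp only [mults, List.mem_flatMap, List.mem_map, List.mem_filter, bne_iff_ne] at hm
  obtain ⟨v, hv, c, ⟨-, hc⟩, rfl⟩ := hm
  exact ⟨v, hv, cd r c, fun e => hc (hr.bij.1 (e.trans (cd_c0 hr).symm)), toV_smul hr c v⟩

theorem isPt_mulVec {C : Cert p} (hC : C.bits = bitsOf (mults C)) {a : CM p} (ha : keeps C a = true)
    {A : Matrix (Fin 3) (Fin 3) F} {d : F} (hd : d ≠ 0) (hA : A = d • toM r a) {x : Fin 3 → F} (hx : IsPt C r x) :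
    IsPt C r (A *ᵥ x) := by
  obtain ⟨v, hv, c, hc, rfl⟩ := hx
  obtain ⟨v', hv', c', hc', e⟩ := isPt_of_propTo hr hC (List.all_eq_true.1 ha v hv)
  refine ⟨v', hv', d * c * c', mul_ne_zero (mul_ne_zero hd hc) hc', ?_⟩
  rw [toV_mulV hr] at e
  rw [hA, Matrix.mulVec_smul, Matrix.smul_mulVec, e, smul_smul, smul_smul]
  congr 1
  ring

/-- A group that keeps a configuration in some unitary coordinates, and misses `w`, is not maximal. -/
theorem not_maximal [Fintype F] (hq : IsQPow σ p) {C : Cert p} (hC : C.Ok) {H : Subgroup (GL (Fin 3) F)}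
    (hH : IsMaximalIn (SUg 3 F p) H) {P : GL (Fin 3) F} (hP : P ∈ Cfsg.GU 3 F p)
    (hkeep : ∀ h ∈ H, ∃ (a : CM p) (d : F), d ≠ 0 ∧ keeps C a = true ∧
      ((P⁻¹ * h * P : GL (Fin 3) F) : Matrix (Fin 3) (Fin 3) F) = d • toM r a)
    (hw : ∀ w : GL (Fin 3) F, (w : Matrix (Fin 3) (Fin 3) F) = toM r C.w → P * w * P⁻¹ ∉ H) : False := by
  let S := keepSubgroup (F := F) (IsPt C r)
  let K := S.map (MulAut.conj P).toMonoidHom
  have hconj : ∀ g ∈ SUg 3 F p, P * g * P⁻¹ ∈ SUg 3 F p := fun g hg => ⟨(Cfsg.GU 3 F p).mul_mem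
    ((Cfsg.GU 3 F p).mul_mem hP hg.1) ((Cfsg.GU 3 F p).inv_mem hP), by
    show Matrix.GeneralLinearGroup.det (P * g * P⁻¹) = 1
    rw [map_mul, map_mul, show Matrix.GeneralLinearGroup.det g = 1 from hg.2, mul_one, ← map_mul, mul_inv_cancel,
      map_one]⟩
  have hmon : ∀ k ∈ H, ∀ x, IsPt C r x →
      IsPt C r (((P⁻¹ * k * P : GL (Fin 3) F) : Matrix (Fin 3) (Fin 3) F) *ᵥ x) := fun k hk x hx => by
    obtain ⟨a, d, hd, ha, e⟩ := hkeep k hk
    exact isPt_mulVec hr hC.bits_eq ha hd e hx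
  have hle : H ≤ K := by
    intro g hg
    refine ⟨P⁻¹ * g * P, fun x => ⟨fun hx => ?_, hmon g hg x⟩, by show P * (P⁻¹ * g * P) * P⁻¹ = g; group⟩
    have := hmon g⁻¹ (H.inv_mem hg) _ hx
    rw [show P⁻¹ * g⁻¹ * P = (P⁻¹ * g * P)⁻¹ by group, Asch.mulVec_inv_cancel] at this
    exact this
  obtain ⟨w, hwU, hwv⟩ := exists_SU hr hq hC.w_su
  obtain ⟨t, htU, htv⟩ := exists_SU hr hq hC.t_su
  have hwS : w ∈ S := by
    have hfwd : ∀ x, IsPt C r x → IsPt C r ((w : Matrix (Fin 3) (Fin 3) F) *ᵥ x) := fun x hx =>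
      isPt_mulVec hr hC.bits_eq hC.w_keep one_ne_zero (by rw [one_smul, hwv]) hx
    intro x
    refine ⟨fun hx => ?_, hfwd x⟩
    -- a finite order element: the inverse is a power
    have hpow : ∀ n : ℕ, ∀ y, IsPt C r y → IsPt C r (((w ^ n : GL (Fin 3) F) : Matrix (Fin 3) (Fin 3) F) *ᵥ y) := by
      intro n
      induction n with
      | zero => intro y hy; simpa using hy
      | succ n ih => intro y hy; rw [pow_succ', Units.val_mul, ← Matrix.mulVec_mulVec]; exact hfwd _ (ih y hy)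
    haveI : Finite (GL (Fin 3) F) :=
      Finite.of_injective (fun g : GL (Fin 3) F => (g : Matrix (Fin 3) (Fin 3) F)) Units.val_injective
    obtain ⟨n, hn⟩ := (isOfFinOrder_of_finite w).mem_powers_iff_mem_zpowers.2
      ((Subgroup.zpowers w).inv_mem (Subgroup.mem_zpowers w))
    have := hpow n _ hx
    rw [show w ^ n = w⁻¹ from hn, Asch.mulVec_inv_cancel] at this
    exact this
  rcases hH.2 (K ⊓ SUg 3 F p) (le_inf hle hH.1.le) inf_le_right with e | e
  · exact hw w hwv (e ▸ ⟨⟨w, hwS, rfl⟩, hconj w hwU⟩)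
  · have hm : P * t * P⁻¹ ∈ K ⊓ SUg 3 F p := e.symm ▸ hconj t htU
    obtain ⟨t', ht', et⟩ := hm.1
    obtain rfl : t' = t := mul_left_cancel (mul_right_cancel (show P * t' * P⁻¹ = P * t * P⁻¹ from et))
    obtain ⟨v, hv, hbad⟩ := List.any_eq_true.1 hC.t_move
    obtain ⟨v', hv', c, hc, ec⟩ := (ht' _).2 ⟨v, hv, 1, one_ne_zero, (one_smul _ _).symm⟩
    obtain ⟨c', rfl⟩ := hr.bij.2 c
    rw [htv, ← toV_mulV hr, ← toV_smul hr] at ec
    have := List.all_eq_true.1 (List.all_eq_true.1 hbad v' hv') c' (mem_allC _)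
    rw [bne_iff_ne] at this
    exact this (toV_injective hr ec.symm)

end Decode

end CfsgLib.Geo.AschThree
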