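/-
Translation between the coded matrices and unitary matrices.
-/
import Cfsg.Agent.Lib.Geo.AschThree.Code

set_option autoImplicit false

namespace CfsgLib.Geo.AschThree

open Matrix Cfsg.Geo
open CfsgLib.Geo.Asch (IsQPow SUg)

variable {p : ℕ} [NeZero p]

/-- The coded coordinate vectors. -/
def unitCode : Fin 3 → CV p := ![(c1, c0, c0), (c0, c1, c0), (c0, c0, c1)]

variable {F : Type*} [Field F] {σ : F ≃+* F} {r : F} (hr : IsRoot σ p r)
include hr

theorem toV_unitCode (k : Fin 3) : toV r (unitCode k : CV p) = Pi.single k 1 := by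
  funext i
  fin_cases k <;> fin_cases i <;> simp [unitCode, toV, cd_c0 hr, cd_c1 hr]

theorem toM_cols (u v w : CV p) (i j : Fin 3) :
    toM r (cols u v w) i j = (![toV r u, toV r v, toV r w] j) i := by
  fin_cases i <;> fin_cases j <;> simp [toM, cols, transp, toV]

theorem toM_mulVec_single (a : CM p) (j : Fin 3) : toV r (mulV a (unitCode j)) = fun i => toM r a i j := by
  rw [toV_mulV hr, toV_unitCode hr, Matrix.mulVec_single_one]
  rfl

theorem eq_of_cd {x y : Cd p} (h : cd r x = cd r y) : x = y := hr.bij.1 h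

theorem conj_fixed {x : Cd p} (h : σ (cd r x) = cd r x) : x.2 = 0 := by
  haveI := hr.char
  have h1 : (cconj x).2 = x.2 := congrArg Prod.snd (eq_of_cd hr ((cd_conj hr x).trans h))
  have h2 := val_neg hr (F := F) x.2
  rw [show -x.2 = x.2 from h1] at h2
  have h3 : (2 : F) * x.2.val = 0 := by linear_combination h2
  have hne : (2 : F) ≠ 0 := by
    intro e
    have h4 : p ∣ 2 := (CharP.cast_eq_zero_iff F p 2).1 (by exact_mod_cast e)
    rcases (Nat.dvd_prime Nat.prime_two).1 h4 with h5 | h5
    · exact CharP.ringChar_ne_one (R := F) (by rw [ringChar.eq F p, h5])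
    · exact hr.odd h5
  have h4 := (mul_eq_zero.1 h3).resolve_left hne
  rw [CharP.cast_eq_zero_iff F p] at h4
  exact Fin.ext (by simpa using Nat.eq_zero_of_dvd_of_lt h4 x.2.isLt)

theorem cd_prime (n : Fin p) : cd r ((n, 0) : Cd p) = (n.val : F) := by simp [cd]

/-- A fixed element is coded with a zero second coordinate. -/
theorem exists_prime_code {z : F} (h : σ z = z) : ∃ n : Fin p, cd r ((n, 0) : Cd p) = z := by
  obtain ⟨x, rfl⟩ := hr.bij.2 z
  exact ⟨x.1, by rw [← conj_fixed hr h]⟩

theorem dot_conj_self_eq_one {a : CM p} (ha : mulM (cadj a) a = onem) :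
    dot (mulV a (unitCode 0)) (vconj (mulV a (unitCode 0))) = c1 := by
  apply eq_of_cd hr
  rw [dot_eq hr, toV_conj hr, toM_mulVec_single hr, cd_c1 hr]
  have h := congrFun₂ (congrArg (toM r) ha) 0 0
  rw [toM_mul hr, toM_cadj hr, toM_one hr, Matrix.mul_apply, Matrix.one_apply_eq] at h
  rw [← h]
  exact Finset.sum_congr rfl fun i _ => by rw [Asch.adj, Matrix.transpose_apply, Matrix.map_apply, mul_comm]

/-- Rescaling a matrix of determinant one by a scalar of norm one. -/
theorem det_sq_of_smul (hq : IsQPow σ p) (hp : p = 5) {g : Matrix (Fin 3) (Fin 3) F} (hg : g.det = 1) {a : CM p}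
    {d : F} (hd : d * σ d = 1) (hga : g = d • toM r a) : cmul (det3 a) (det3 a) = c1 := by
  apply eq_of_cd hr
  rw [cd_mul hr, ← toM_det hr, cd_c1 hr]
  have h1 : d ^ 3 * (toM r a).det = 1 := by
    rw [← hg, hga, Matrix.det_smul, Fintype.card_fin]
  have h6 : d ^ 6 = 1 := by
    rw [hq.eq_pow, hp, ← pow_succ'] at hd
    exact hd
  linear_combination (-((toM r a).det * (toM r a).det)) * h6 + ((d ^ 3 * (toM r a).det) + 1) * h1

theorem norm_code {x : Cd p} (h : cd r x * σ (cd r x) = 1) : cmul x (cconj x) = c1 :=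
  eq_of_cd hr (by rw [cd_mul hr, cd_conj hr, h, cd_c1 hr])

end CfsgLib.Geo.AschThree
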