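/-
Elements of order seven in an adjoint-closed cubic field of matrices over the fields with 9 and 25 elements.
-/
import Cfsg.Agent.Lib.Geo.AschThree.Tools
import Cfsg.Agent.Lib.Classical.Unitary.Matrix

set_option autoImplicit false

namespace CfsgLib.Geo.AschThree

open Matrix Cfsg.Geo
open CfsgLib.Geo.Asch (IsQPow SUg mem_GU_of_mul herm_adj hermForm_eq adj adj_add adj_pow adj_adj adj_smul adj_one)

variable {F : Type*} [Field F] [Fintype F] {σ : F ≃+* F} {p : ℕ} [NeZero p]

omit [NeZero p] in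
theorem adj_mem_of_closed (hq : IsQPow σ p) {K : Subalgebra F (Matrix (Fin 3) (Fin 3) F)}
    (hKa : IsAdjointClosedFor (Cfsg.hermForm 3 F p) K) {k : Matrix (Fin 3) (Fin 3) F} (hk : k ∈ K) : adj σ k ∈ K := by
  obtain ⟨k', hk', hkk⟩ := hKa k hk
  suffices hkk' : k' = adj σ k by rwa [← hkk']
  ext i j
  have h1 := (hkk (Pi.single i 1) (Pi.single j 1)).symm.trans (herm_adj hq k _ _)
  rw [hermForm_eq hq, hermForm_eq hq, Finset.sum_eq_single i (fun m _ hm => by simp [Pi.single_eq_of_ne hm]) (by simp),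
    Finset.sum_eq_single i (fun m _ hm => by simp [Pi.single_eq_of_ne hm]) (by simp)] at h1
  simpa using h1

omit [Fintype F] [NeZero p] in
theorem isField_of_sub {K : Subalgebra F (Matrix (Fin 3) (Fin 3) F)} (hK : IsFieldSubalgebra 3 K) : IsField K :=
  { exists_pair_ne := ⟨0, 1, fun h => zero_ne_one (congrArg Subtype.val h)⟩
    mul_comm := fun a b => Subtype.ext (hK.comm _ a.2 _ b.2)
    mul_inv_cancel := fun {a} ha => by
      obtain ⟨y, hy, hy'⟩ := hK.inv a a.2 fun h => ha (Subtype.ext h)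
      exact ⟨⟨y, hy⟩, Subtype.ext hy'⟩ }

/-- In a field of matrices the seventh roots of one are the powers of any non-trivial one. -/
theorem eq_pow_of_seven {K : Subalgebra F (Matrix (Fin 3) (Fin 3) F)} (hK : IsFieldSubalgebra 3 K)
    {x : GL (Fin 3) F} (hxK : (x : Matrix (Fin 3) (Fin 3) F) ∈ K) (hx : x ^ 7 = 1) (hx1 : x ≠ 1)
    {k : Matrix (Fin 3) (Fin 3) F} (hk : k ∈ K) (hk7 : k ^ 7 = 1) :
    ∃ i < 7, k = ((x ^ i : GL (Fin 3) F) : Matrix (Fin 3) (Fin 3) F) := by
  letI : Field K := (isField_of_sub hK).toField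
  haveI : Fact (Nat.Prime 7) := ⟨by norm_num⟩
  set z : K := ⟨_, hxK⟩ with hz
  have hz7 : z ^ 7 = 1 := Subtype.ext (by
    show (x : Matrix (Fin 3) (Fin 3) F) ^ 7 = 1
    rw [← Units.val_pow_eq_pow_val, hx, Units.val_one])
  have hz1 : z ≠ 1 := fun e => hx1 (Units.ext (congrArg Subtype.val e))
  have hprim : IsPrimitiveRoot z 7 := IsPrimitiveRoot.iff_orderOf.2 (orderOf_eq_prime hz7 hz1)
  obtain ⟨i, hi, he⟩ := hprim.eq_pow_of_pow_eq_one (show (⟨k, hk⟩ : K) ^ 7 = 1 from Subtype.ext hk7)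
  exact ⟨i, hi, by rw [Units.val_pow_eq_pow_val]; exact (congrArg Subtype.val he).symm⟩

/-- An adjoint-closed cubic field contains a unitary element of order seven and determinant one. -/
theorem exists_seven (hq : IsQPow σ p) (hF : Fintype.card F = p ^ 2) (hp : p = 3 ∨ p = 5) {r : F} (hr : IsRoot σ p r)
    {K : Subalgebra F (Matrix (Fin 3) (Fin 3) F)} (hK : IsFieldSubalgebra 3 K)
    (hKa : IsAdjointClosedFor (Cfsg.hermForm 3 F p) K) :
    ∃ x : GL (Fin 3) F, x ∈ SUg 3 F p ∧ (x : Matrix (Fin 3) (Fin 3) F) ∈ K ∧ x ^ 7 = 1 ∧ x ≠ 1 := by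
  classical
  haveI := hr.char
  haveI : Fact p.Prime := ⟨by rcases hp with rfl | rfl <;> norm_num⟩
  haveI : Fact (Nat.Prime 7) := ⟨by norm_num⟩
  letI : Field K := (isField_of_sub hK).toField
  haveI : Finite K := inferInstance
  haveI : CharP K p := charP_of_injective_algebraMap (algebraMap F K).injective p
  have hcardK : Nat.card K = p ^ 6 := by
    rw [Module.natCard_eq_pow_finrank (K := F) (V := K), hK.finrank_eq, Nat.card_eq_fintype_card, hF]
    ring
  obtain ⟨g, hg⟩ := IsCyclic.exists_generator (α := Kˣ)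
  have hgo : orderOf g = p ^ 6 - 1 := by
    rw [orderOf_eq_card_of_forall_mem_zpowers hg, Nat.card_units, hcardK]
  have h7 : 7 ∣ p ^ 6 - 1 := by rcases hp with rfl | rfl <;> norm_num
  set z : K := ((g ^ ((p ^ 6 - 1) / 7) : Kˣ) : K) with hzdef
  have hz7 : z ^ 7 = 1 := by
    rw [hzdef, ← Units.val_pow_eq_pow_val, ← pow_mul, Nat.div_mul_cancel h7, ← hgo, pow_orderOf_eq_one, Units.val_one]
  have hz1 : z ≠ 1 := fun e => by
    have h1 := orderOf_dvd_of_pow_eq_one (Units.ext e : g ^ ((p ^ 6 - 1) / 7) = 1)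
    rw [hgo] at h1
    have h2 := Nat.le_of_dvd (by rcases hp with rfl | rfl <;> norm_num) h1
    rcases hp with rfl | rfl <;> norm_num at h2
  have hzo : orderOf z = 7 := orderOf_eq_prime hz7 hz1
  have hprim : IsPrimitiveRoot z 7 := IsPrimitiveRoot.iff_orderOf.2 hzo
  have hsum : 1 + z + z ^ 2 + z ^ 3 + z ^ 4 + z ^ 5 + z ^ 6 = 0 := by
    have h := hprim.geom_sum_eq_zero (by norm_num)
    simpa [Finset.sum_range_succ] using h
  -- the adjoint is a power
  set zm : Matrix (Fin 3) (Fin 3) F := z.1 with hzm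
  have hzmK : zm ∈ K := z.2
  have hzm7 : zm ^ 7 = 1 := congrArg Subtype.val hz7
  set za : K := ⟨adj σ zm, adj_mem_of_closed hq hKa hzmK⟩ with hza
  have hza7 : za ^ 7 = 1 := Subtype.ext (by
    show adj σ zm ^ 7 = 1
    rw [← adj_pow, hzm7, adj_one])
  obtain ⟨i, hi, hie⟩ := hprim.eq_pow_of_pow_eq_one hza7
  have hii : z ^ (i * i) = z := Subtype.ext (by
    show zm ^ (i * i) = zm
    have e : adj σ zm = zm ^ i := (congrArg Subtype.val hie).symm
    rw [pow_mul, ← e, ← adj_pow, ← e, adj_adj hq])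
  have hi2 : i * i % 7 = 1 := by
    rw [← pow_mod_orderOf, hzo] at hii
    conv_rhs at hii => rw [← pow_one z]
    exact hprim.pow_inj (Nat.mod_lt _ (by norm_num)) (by norm_num) hii
  have hi6 : i = 1 ∨ i = 6 := by
    interval_cases i <;> simp_all
  rcases hi6 with rfl | rfl
  · -- a self-adjoint element of order seven is impossible
    exfalso
    set T : K := z + z ^ 2 + z ^ 4 with hT
    have hTT : T * T + T + 2 = 0 := by
      rw [hT]
      linear_combination 2 * hsum + z * hz7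
    have hcl : ∀ y : K, y ^ (p ^ 2) = y → ∃ c : F, algebraMap F K c = y := by
      intro y hy
      by_contra! hno
      open Polynomial in
      let f : K[X] := X ^ (p ^ 2) - X
      have hp2 : 1 < p ^ 2 := by rcases hp with rfl | rfl <;> norm_num
      have hf0 : f ≠ 0 := FiniteField.X_pow_card_sub_X_ne_zero K hp2
      have hcard := Polynomial.card_le_degree_of_subset_roots (p := f)
        (Z := insert y (Finset.univ.image (algebraMap F K))) (fun w hw => by
          refine (Polynomial.mem_roots hf0).2 ?_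
          simp only [f, Polynomial.IsRoot, Polynomial.eval_sub, Polynomial.eval_pow, Polynomial.eval_X, sub_eq_zero]
          rcases Finset.mem_insert.1 (Finset.mem_def.2 hw) with rfl | hw
          · exact hy
          · obtain ⟨c, -, rfl⟩ := Finset.mem_image.1 hw
            rw [← map_pow, ← hF, FiniteField.pow_card])
      rw [Finset.card_insert_of_notMem (by simpa using fun c => hno c), Finset.card_image_of_injective _
        (algebraMap F K).injective, Finset.card_univ, hF, FiniteField.X_pow_card_sub_X_natDegree_eq K hp2] at hcard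
      omega
    have hfix : T ^ (p ^ 2) = T := by
      rw [hT, add_pow_char_pow, add_pow_char_pow]
      rcases hp with rfl | rfl
      · linear_combination (z ^ 2 + z * (z ^ 14 + z ^ 7 + 1) * z ^ 0 - z * (z ^ 14 + z ^ 7 + 1) * z ^ 0) * hz7 +
          (z ^ 11 + z ^ 4) * hz7 + (z ^ 29 + z ^ 22 + z ^ 15 + z ^ 8 + z) * hz7
      · linear_combination (z ^ 18 + z ^ 11 + z ^ 4) * hz7 + (z ^ 43 + z ^ 36 + z ^ 29 + z ^ 22 + z ^ 15 + z ^ 8 + z) * hz7 +
          (z ^ 93 + z ^ 86 + z ^ 79 + z ^ 72 + z ^ 65 + z ^ 58 + z ^ 51 + z ^ 44 + z ^ 37 + z ^ 30 + z ^ 23 + z ^ 16 +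
            z ^ 9 + z ^ 2) * hz7
    obtain ⟨c, hc⟩ := hcl T hfix
    have hTm : zm + zm ^ 2 + zm ^ 4 = c • (1 : Matrix (Fin 3) (Fin 3) F) := by
      rw [← Algebra.algebraMap_eq_smul_one]
      exact (congrArg Subtype.val hc).symm
    have hcσ : σ c = c := by
      have e : adj σ zm = zm := by
        have h : zm ^ 1 = adj σ zm := congrArg Subtype.val hie
        rw [pow_one] at h
        exact h.symm
      have h1 := congrArg (adj σ) hTm
      rw [adj_add, adj_add, adj_pow, adj_pow, e, adj_smul, adj_one, hTm] at h1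
      have h2 := congrFun₂ h1 0 0
      simpa using h2.symm
    have hcc : c * c + c + 2 = 0 := by
      apply (algebraMap F K).injective
      rw [map_add, map_add, map_mul, map_ofNat, map_zero, hc, hTT]
    obtain ⟨n, hn⟩ := exists_prime_code hr hcσ
    rw [← hn, cd_prime hr] at hcc
    have hzero : ((n.val * n.val + n.val + 2 : ℕ) : F) = 0 := by push_cast; exact hcc
    rw [CharP.cast_eq_zero_iff F p] at hzero
    rcases hp with rfl | rfl
    · exact (show ∀ n : Fin 3, ¬ 3 ∣ n.val * n.val + n.val + 2 by decide) n hzero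
    · exact (show ∀ n : Fin 5, ¬ 5 ∣ n.val * n.val + n.val + 2 by decide) n hzero
  · -- a unitary element
    have e : adj σ zm = zm ^ 6 := (congrArg Subtype.val hie).symm
    let x : GL (Fin 3) F := ⟨zm, zm ^ 6, by rw [← pow_succ', hzm7], by rw [← pow_succ, hzm7]⟩
    have hxd : zm.det = 1 := by
      have h1 : zm.det ^ 7 = 1 := by rw [← Matrix.det_pow, hzm7, Matrix.det_one]
      have hne : zm.det ≠ 0 := fun h0 => by rw [h0, zero_pow (by norm_num)] at h1; exact zero_ne_one h1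
      have h2 := FiniteField.pow_card_sub_one_eq_one zm.det hne
      have h3 := pow_gcd_eq_one.2 ⟨h1, h2⟩
      rw [hF] at h3
      rcases hp with rfl | rfl <;> norm_num at h3 <;> exact h3
    refine ⟨x, ⟨mem_GU_of_mul hq ?_, Units.ext hxd⟩, hzmK, Units.ext ?_, fun h1 => hz1 ?_⟩
    · have h2 : adj σ zm * zm = 1 := by rw [e, ← pow_succ, hzm7]
      have h3 := congrArg (fun M : Matrix (Fin 3) (Fin 3) F => Mᵀ) h2
      show zmᵀ * zm.map σ = 1
      simpa [adj] using h3
    · rw [Units.val_pow_eq_pow_val, Units.val_one]; exact hzm7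
    · exact Subtype.ext (congrArg Units.val h1)

/-- Two unitary elements of order seven generate conjugate subgroups. -/
theorem exists_conj_seven (hF : Fintype.card F = p ^ 2) (hp : p = 3 ∨ p = 5) {x y : GL (Fin 3) F}
    (hx : x ∈ Cfsg.GU 3 F p) (hy : y ∈ Cfsg.GU 3 F p) (hx7 : x ^ 7 = 1) (hx1 : x ≠ 1) (hy7 : y ^ 7 = 1)
    (hy1 : y ≠ 1) : ∃ P ∈ Cfsg.GU 3 F p, ∃ k : ℕ, P * y * P⁻¹ = x ^ k := by
  classical
  haveI : Fact (Nat.Prime 7) := ⟨by norm_num⟩
  haveI : Finite (GL (Fin 3) F) :=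
    Finite.of_injective (fun g : GL (Fin 3) F => (g : Matrix (Fin 3) (Fin 3) F)) Units.val_injective
  set G := Cfsg.GU 3 F p
  have h49 : ¬ 7 ^ 2 ∣ Nat.card G := by
    rw [CfsgLib.Classical.Herm.card_GU hF 3]
    rcases hp with rfl | rfl <;> norm_num [Finset.prod_range_succ]
  have key : ∀ z : G, z ^ 7 = 1 → z ≠ 1 → ∃ S : Sylow 7 G, (S : Subgroup G) = Subgroup.zpowers z := by
    intro z hz hz1
    have ho : Nat.card (Subgroup.zpowers z) = 7 := by rw [Nat.card_zpowers, orderOf_eq_prime hz hz1]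
    obtain ⟨S, hS⟩ := (IsPGroup.of_card (n := 1) (by rw [ho, pow_one]) : IsPGroup 7 (Subgroup.zpowers z)).exists_le_sylow
    refine ⟨S, (Subgroup.eq_of_le_of_card_ge hS ?_).symm⟩
    obtain ⟨m, hm⟩ := IsPGroup.iff_card.1 S.isPGroup'
    rw [ho, hm]
    by_contra hlt
    have h2 : 2 ≤ m := by
      by_contra hm2
      have hm1 : 7 ^ m ≤ 7 ^ 1 := Nat.pow_le_pow_right (by norm_num) (by omega)
      rw [pow_one] at hm1
      omega
    exact h49 (dvd_trans (pow_dvd_pow 7 h2) (hm ▸ Subgroup.card_subgroup_dvd_card (S : Subgroup G)))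
  obtain ⟨S, hS⟩ := key ⟨x, hx⟩ (Subtype.ext (by simpa using hx7)) fun e => hx1 (congrArg Subtype.val e)
  obtain ⟨T, hT⟩ := key ⟨y, hy⟩ (Subtype.ext (by simpa using hy7)) fun e => hy1 (congrArg Subtype.val e)
  obtain ⟨g, hg⟩ := MulAction.exists_smul_eq G T S
  have hmem : g * (⟨y, hy⟩ : G) * g⁻¹ ∈ (S : Subgroup G) := by
    rw [← hg, Sylow.coe_subgroup_smul]
    exact ⟨⟨y, hy⟩, hT ▸ Subgroup.mem_zpowers _, rfl⟩
  rw [hS] at hmem
  obtain ⟨k, hk⟩ := (isOfFinOrder_of_finite (⟨x, hx⟩ : G)).mem_powers_iff_mem_zpowers.2 hmem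
  exact ⟨g, g.2, k, (congrArg Subtype.val hk).symm.trans (by rw [SubmonoidClass.coe_pow])⟩

end CfsgLib.Geo.AschThree
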