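/-
In SU₃(3) and SU₃(5) the normaliser of a cubic field is not maximal.
-/
import Cfsg.Agent.Lib.Geo.AschThree.CheckOk
import Cfsg.Agent.Lib.Geo.AschThree.CheckField
import Cfsg.Agent.Lib.Geo.AschThree.Seven

set_option autoImplicit false

namespace CfsgLib.Geo.AschThree

open Matrix Cfsg.Geo
open CfsgLib.Geo.Asch (IsQPow SUg)

variable {F : Type*} [Field F] {σ : F ≃+* F} {p : ℕ} [NeZero p] {r : F}

theorem toM_powM (hr : IsRoot σ p r) (a : CM p) (n : ℕ) : toM r (powM a n) = toM r a ^ n := by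
  induction n with
  | zero => rw [powM, toM_one hr, pow_zero]
  | succ n ih => rw [powM, toM_mul hr, ih, pow_succ]

theorem toM_ctr (hr : IsRoot σ p r) (a : CM p) : cd r (ctr a) = (toM r a).trace := by
  rw [ctr, cd_add hr, cd_add hr, Matrix.trace_fin_three]
  simp [toM, toV]

theorem mulM_cols (a : CM p) (u v w : CV p) : mulM a (cols u v w) = cols (mulV a u) (mulV a v) (mulV a w) := rfl

theorem mulV_comm (hr : IsRoot σ p r) {a x : CM p} (h : mulM a x = mulM x a) (u : CV p) :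
    mulV a (mulV x u) = mulV x (mulV a u) := by
  apply toV_injective hr
  rw [toV_mulV hr, toV_mulV hr, toV_mulV hr, toV_mulV hr, Matrix.mulVec_mulVec, Matrix.mulVec_mulVec, ← toM_mul hr,
    ← toM_mul hr, h]

/-- An element commuting with the seed keeps the configuration together with its two translates. -/
theorem keep_of_comm (hr : IsRoot σ p r) {C : Cert p} {x f b : CM p} (hd : fieldData x f b = true)
    (hk : fieldKeep C x f b = true) {a : CM p} (ha : isSU a = true) (hc : mulM a x = mulM x a) :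
    keeps C a = true ∧ keeps C (mulM f a) = true ∧ keeps C (mulM f (mulM f a)) = true := by
  simp only [fieldData, Bool.and_eq_true, beq_iff_eq] at hd
  obtain ⟨⟨-, hb⟩, -⟩ := hd
  have hau : mulM (cadj a) a = onem := by
    simp only [isSU, Bool.and_eq_true, beq_iff_eq] at ha
    exact ha.1
  set u := mulV a (e0v : CV p) with hu
  have hmem : u ∈ unitV p := mem_unitV (dot_conj_self_eq_one hr hau)
  have hab : mulM (cols u (mulV x u) (mulV x (mulV x u))) b = a := by
    apply toM_injective hr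
    rw [show cols u (mulV x u) (mulV x (mulV x u)) = mulM a (cols e0v (mulV x e0v) (mulV x (mulV x e0v))) by
      rw [mulM_cols, mulV_comm hr hc, mulV_comm hr hc, mulV_comm hr hc], toM_mul hr, toM_mul hr, mul_assoc, ← toM_mul hr, hb,
      toM_one hr, mul_one]
  have h := List.all_eq_true.1 hk u hmem
  rw [hab] at h
  simp only [ha, hc, Bool.not_true, bne_self_eq_false, Bool.false_or, Bool.and_eq_true] at h
  exact ⟨h.1.1, h.1.2, h.2⟩

variable [Fintype F]

/-- The normaliser of a cubic field is not maximal when the configuration is kept by that of the seed. -/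
theorem field_not_maximal (hq : IsQPow σ p) (hF : Fintype.card F = p ^ 2) (hp : p = 3 ∨ p = 5) (hr : IsRoot σ p r)
    {C : Cert p} (hC : C.Ok) {xc fc bc : CM p} (hd : fieldData xc fc bc = true) (hk : fieldKeep C xc fc bc = true)
    (hout : fieldOut C xc = true) {K : Subalgebra F (Matrix (Fin 3) (Fin 3) F)} (hK : IsFieldSubalgebra 3 K)
    (hKa : IsAdjointClosedFor (Cfsg.hermForm 3 F p) K) {H : Subgroup (GL (Fin 3) F)}
    (hH : IsMaximalIn (SUg 3 F p) H) (hle : H ≤ subalgebraNormalizer K) : False := by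
  classical
  have hd' := hd
  simp only [fieldData, Bool.and_eq_true, beq_iff_eq, bne_iff_ne] at hd'
  obtain ⟨⟨⟨⟨⟨⟨⟨hxs, hfs⟩, hx7c⟩, hx1c⟩, hfx⟩, hf3⟩, -⟩, htr⟩ := hd'
  obtain ⟨x, hx, hxK, hx7, hx1⟩ := exists_seven hq hF hp hr hK hKa
  obtain ⟨y, hy, hyv⟩ := exists_SU hr hq hxs
  obtain ⟨f, hf, hfv⟩ := exists_SU hr hq hfs
  have hy7 : y ^ 7 = 1 := Units.ext (by
    rw [Units.val_pow_eq_pow_val, hyv, ← toM_powM hr, hx7c, toM_one hr, Units.val_one])
  have hy1 : y ≠ 1 := fun e => hx1c (toM_injective hr (by rw [← hyv, e, toM_one hr, Units.val_one]))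
  have hfy : f * y = y ^ 2 * f := Units.ext (by
    rw [Units.val_mul, Units.val_mul, Units.val_pow_eq_pow_val, hyv, hfv, ← toM_powM hr, ← toM_mul hr, ← toM_mul hr,
      hfx])
  have hf3' : f ^ 3 = 1 := Units.ext (by
    rw [Units.val_pow_eq_pow_val, hfv, ← toM_powM hr, hf3, toM_one hr, Units.val_one])
  obtain ⟨P, hP, k, hPy⟩ := exists_conj_seven hF hp hx.1 hy.1 hx7 hx1 hy7 hy1
  have hxk7 : (x ^ k) ^ 7 = 1 := by rw [← pow_mul, mul_comm, pow_mul, hx7, one_pow]
  have hxk1 : x ^ k ≠ 1 := fun e => hy1 (by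
    rw [e, mul_inv_eq_one, mul_eq_left] at hPy
    exact hPy)
  have hxkK : ((x ^ k : GL (Fin 3) F) : Matrix (Fin 3) (Fin 3) F) ∈ K := by
    rw [Units.val_pow_eq_pow_val]; exact pow_mem hxK k
  have hnorm : ∀ h ∈ H, ∃ i < 7, (P⁻¹ * h * P) * y * (P⁻¹ * h * P)⁻¹ = y ^ i := by
    intro h hh
    have h1 := (hle hh _).1 hxkK
    rw [← Units.val_mul, ← Units.val_mul] at h1
    obtain ⟨i, hi, hie⟩ := eq_pow_of_seven hK hxkK hxk7 hxk1 h1 (by
      rw [← Units.val_pow_eq_pow_val, conj_pow, hxk7]; simp)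
    refine ⟨i, hi, ?_⟩
    have e : P⁻¹ * h * P * y * (P⁻¹ * h * P)⁻¹ = P⁻¹ * (h * x ^ k * h⁻¹) * P := by rw [← hPy]; group
    rw [e, Units.ext hie, ← hPy, conj_pow]
    group
  refine not_maximal hr hq hC hH hP (fun h hh => ?_) (fun w hwv hwH => ?_)
  · obtain ⟨i, hi, hg⟩ := hnorm h hh
    set g := P⁻¹ * h * P with hgdef
    have hgS : g ∈ SUg 3 F p := ⟨(Cfsg.GU 3 F p).mul_mem ((Cfsg.GU 3 F p).mul_mem ((Cfsg.GU 3 F p).inv_mem hP)
      (hH.1.le hh).1) hP, by
      show Matrix.GeneralLinearGroup.det (P⁻¹ * h * P) = 1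
      rw [map_mul, map_mul, show Matrix.GeneralLinearGroup.det h = 1 from (hH.1.le hh).2, mul_one, ← map_mul,
        inv_mul_cancel, map_one]⟩
    have htrace : ∀ j ∈ [3, 5, 6], i ≠ j := by
      intro j hj e
      have h1 := List.all_eq_true.1 htr j hj
      rw [bne_iff_ne] at h1
      apply h1 (eq_of_cd hr ?_)
      rw [toM_ctr hr, toM_ctr hr, toM_powM hr, ← hyv, ← Units.val_pow_eq_pow_val, ← e, ← hg, Units.val_mul,
        Units.val_mul, Matrix.trace_units_conj]
    have hf2 : ∀ j : ℕ, f * y ^ j * f⁻¹ = y ^ (2 * j) := fun j => by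
      rw [← conj_pow, hfy, mul_inv_cancel_right, ← pow_mul]
    have hcomm : ∀ t : GL (Fin 3) F, t ∈ SUg 3 F p → t * y * t⁻¹ = y →
        ∃ a : CM p, toM r a = (t : Matrix (Fin 3) (Fin 3) F) ∧ keeps C a = true ∧ keeps C (mulM fc a) = true ∧
          keeps C (mulM fc (mulM fc a)) = true := by
      intro t ht hty
      obtain ⟨a, ha⟩ := exists_toM hr (t : Matrix (Fin 3) (Fin 3) F)
      refine ⟨a, ha, keep_of_comm hr hd hk (isSU_of_mem hr hq ht ha) (toM_injective hr ?_)⟩
      rw [toM_mul hr, toM_mul hr, ha, ← hyv, ← Units.val_mul, ← Units.val_mul, ← mul_inv_eq_iff_eq_mul.1 hty]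
    have hfS : ∀ t ∈ SUg 3 F p, f * t ∈ SUg 3 F p := fun t ht => Subgroup.mul_mem _ hf ht
    have hy7' : ∀ j, y ^ (7 + j) = y ^ j := fun j => by rw [pow_add, hy7, one_mul]
    interval_cases i
    · rw [pow_zero, mul_inv_eq_one, mul_eq_left] at hg
      exact absurd hg hy1
    · obtain ⟨a, ha, hka, -, -⟩ := hcomm g hgS (by rwa [pow_one] at hg)
      exact ⟨a, 1, one_ne_zero, hka, by rw [one_smul, ha]⟩
    · have h2 : f * (f * g) * y * (f * (f * g))⁻¹ = y := by
        rw [show f * (f * g) * y * (f * (f * g))⁻¹ = f * (f * (g * y * g⁻¹) * f⁻¹) * f⁻¹ by group, hg, hf2, hf2,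
          show 2 * (2 * 2) = 7 + 1 by rfl, hy7', pow_one]
      obtain ⟨a, ha, -, hka, -⟩ := hcomm _ (hfS _ (hfS _ hgS)) h2
      refine ⟨mulM fc a, 1, one_ne_zero, hka, ?_⟩
      rw [one_smul, toM_mul hr, ha, ← hfv, ← Units.val_mul, ← mul_assoc, ← mul_assoc, ← pow_two,
        ← pow_succ, hf3', one_mul]
    · exact absurd rfl (htrace 3 (by simp))
    · have h4 : f * g * y * (f * g)⁻¹ = y := by
        rw [show f * g * y * (f * g)⁻¹ = f * (g * y * g⁻¹) * f⁻¹ by group, hg, hf2, show 2 * 4 = 7 + 1 by rfl, hy7',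
          pow_one]
      obtain ⟨a, ha, -, -, hka⟩ := hcomm _ (hfS _ hgS) h4
      refine ⟨mulM fc (mulM fc a), 1, one_ne_zero, hka, ?_⟩
      rw [one_smul, toM_mul hr, toM_mul hr, ha, ← hfv, ← Units.val_mul, ← Units.val_mul, ← mul_assoc, ← mul_assoc,
        ← pow_two, ← pow_succ, hf3', one_mul]
    · exact absurd rfl (htrace 5 (by simp))
    · exact absurd rfl (htrace 6 (by simp))
  · obtain ⟨i, hi, hg⟩ := hnorm _ hwH
    rw [show P⁻¹ * (P * w * P⁻¹) * P = w by group] at hg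
    have h1 := List.all_eq_true.1 hout i (List.mem_range.2 hi)
    rw [bne_iff_ne] at h1
    refine h1 (toM_injective hr ?_)
    rw [toM_mul hr, toM_mul hr, toM_powM hr, ← hwv, ← hyv, ← Units.val_pow_eq_pow_val, ← Units.val_mul,
      ← Units.val_mul, ← hg]
    group

end CfsgLib.Geo.AschThree
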