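/-
In SU₃(5) the normaliser of an extraspecial group of order 27 is not maximal.
-/
import Cfsg.Agent.Lib.Geo.AschThree.CheckOk
import Cfsg.Agent.Lib.Geo.AschThree.CheckHeis
import Cfsg.Agent.Lib.Geo.AschThree.CheckPoints
import Cfsg.Agent.Lib.Geo.AschThree.Tools
import Cfsg.Agent.Lib.Geo.ExtraTwentySevenApply

set_option autoImplicit false

namespace CfsgLib.Geo.AschThree

open Matrix Cfsg.Geo
open CfsgLib.Geo.Asch (IsQPow SUg exists_isQPow mem_GU_of_mul)
open CfsgLib.Geo.Extra27 (amat bmat exists_heis exists_primitive)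

variable {F : Type*} [Field F] {σ : F ≃+* F} {r : F}

theorem adj_mul_self' (hq : IsQPow σ 5) {g : GL (Fin 3) F} (hg : g ∈ Cfsg.GU 3 F 5) [Fintype F] :
    (g : Matrix (Fin 3) (Fin 3) F)ᵀ * (g : Matrix (Fin 3) (Fin 3) F).map σ = 1 := by
  have h : Asch.adj σ (g : Matrix (Fin 3) (Fin 3) F) * (g : Matrix (Fin 3) (Fin 3) F) = 1 := by
    rw [Asch.adj_gu hq hg, Units.inv_mul]
  have h2 := congrArg (fun M : Matrix (Fin 3) (Fin 3) F => Mᵀ) h
  simpa [Asch.adj] using h2

theorem toM_heisA (hr : IsRoot σ 5 r) (l : Cd 5) : toM r (heisA l) = amat (cd r l) := by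
  ext i j
  fin_cases i <;> fin_cases j <;>
    simp [heisA, cols, transp, toM, toV, amat, smulV, e0v, e1v, e2v, cd_c0 hr, cd_c1 hr, cd_mul hr, pow_two]

theorem toM_heisB (hr : IsRoot σ 5 r) : toM r (heisB : CM 5) = bmat := by
  ext i j
  fin_cases i <;> fin_cases j <;> simp [heisB, cols, transp, toM, toV, bmat, e0v, e1v, e2v, cd_c0 hr, cd_c1 hr]

theorem toV_sumV (hr : IsRoot σ 5 r) (y : CM 5) (e : CV 5) :
    toV r (sumV y e) = (1 + toM r y + toM r y * toM r y) *ᵥ toV r e := by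
  rw [Matrix.add_mulVec, Matrix.add_mulVec, Matrix.one_mulVec, ← Matrix.mulVec_mulVec, ← toV_mulV hr, ← toV_mulV hr]
  funext i
  fin_cases i <;> simp [sumV, vadd, toV, cd_add hr] <;> ring

theorem toV_e (hr : IsRoot σ 5 r) :
    toV r (e0v : CV 5) = Pi.single 0 1 ∧ toV r (e1v : CV 5) = Pi.single 1 1 ∧ toV r (e2v : CV 5) = Pi.single 2 1 :=
  ⟨toV_unitCode hr 0, toV_unitCode hr 1, toV_unitCode hr 2⟩

variable [Fintype F]

/-- An orthonormal basis in which an extraspecial group of order 27 has the standard generators. -/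
theorem exists_heis_coords (hq : IsQPow σ 5) (hF : Fintype.card F = 5 ^ 2) (hr : IsRoot σ 5 r)
    {R : Subgroup (GL (Fin 3) F)} (hRU : R ≤ Cfsg.GU 3 F 5) (hR : Nat.card R = 27) (hRe : Monoid.exponent R = 3)
    (hRna : ¬ IsMulCommutative R) :
    ∃ P ∈ Cfsg.GU 3 F 5,
      (∀ z ∈ R, ∃ c ∈ heisList cubeRoot, ((P⁻¹ * z * P : GL (Fin 3) F) : Matrix (Fin 3) (Fin 3) F) = toM r c) ∧
      (∃ z ∈ R, ((P⁻¹ * z * P : GL (Fin 3) F) : Matrix (Fin 3) (Fin 3) F) = toM r (heisA cubeRoot)) ∧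
      ∃ z ∈ R, ((P⁻¹ * z * P : GL (Fin 3) F) : Matrix (Fin 3) (Fin 3) F) = toM r (heisB : CM 5) := by
  classical
  haveI := hr.char
  have h3 : (3 : F) ≠ 0 := by
    intro e
    have h : ((3 : ℕ) : F) = 0 := by exact_mod_cast e
    rw [CharP.cast_eq_zero_iff F 5] at h
    norm_num at h
  obtain ⟨l₀, hl₀⟩ := exists_primitive (F := F) (n := 3) (by rw [hF]; norm_num) (by norm_num)
  obtain ⟨h⟩ := exists_heis hl₀ h3 R hR hRe hRna
  have hdata := heisData_five
  simp only [heisData, Bool.and_eq_true, beq_iff_eq, bne_iff_ne, List.all_eq_true, List.contains_iff_mem] at hdata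
  obtain ⟨⟨⟨⟨⟨⟨⟨hl3, hl1⟩, honem⟩, hA⟩, hB⟩, -⟩, -⟩, hclos⟩ := hdata
  set L := cd r cubeRoot with hL
  have hL3 : L ^ 3 = 1 := by rw [hL, pow_three, ← mul_assoc, ← cd_mul hr, ← cd_mul hr, hl3, cd_c1 hr]
  haveI : Fact (Nat.Prime 3) := ⟨Nat.prime_three⟩
  have hLp : IsPrimitiveRoot L 3 :=
    IsPrimitiveRoot.iff_orderOf.2 (orderOf_eq_prime hL3 fun e => hl1 (eq_of_cd hr (e.trans (cd_c1 hr).symm)))
  obtain ⟨i, hi, hie⟩ := hLp.eq_pow_of_pow_eq_one h.prim.pow_eq_one
  have hi0 : i ≠ 0 := fun e => h.prim.ne_one (by norm_num) (by rw [← hie, e, pow_zero])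
  set g := (h.g : Matrix (Fin 3) (Fin 3) F) with hg
  set d : Fin 3 → F := ![1, h.lam, h.lam ^ 2] with hd
  have hσl : σ h.lam = h.lam ^ 2 := by
    rw [hq.eq_pow, show h.lam ^ 5 = h.lam ^ 3 * h.lam ^ 2 by ring, h.prim.pow_eq_one, one_mul]
  have hgen : ∀ (z : GL (Fin 3) F) (X : Matrix (Fin 3) (Fin 3) F), z ∈ R →
      (z : Matrix (Fin 3) (Fin 3) F) = g * X * ((h.g⁻¹ : GL (Fin 3) F) : Matrix (Fin 3) (Fin 3) F) →
      Xᵀ * (gᵀ * g.map σ) * X.map σ = gᵀ * g.map σ := by
    intro z X hz hzX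
    have e : (z : Matrix (Fin 3) (Fin 3) F) * g = g * X := by rw [hzX, mul_assoc, hg, Units.inv_mul, mul_one]
    have h1 := adj_mul_self' hq (hRU hz)
    calc Xᵀ * (gᵀ * g.map σ) * X.map σ = (g * X)ᵀ * (g * X).map σ := by
          rw [Matrix.transpose_mul, Matrix.map_mul]; simp only [mul_assoc]
      _ = gᵀ * ((z : Matrix (Fin 3) (Fin 3) F)ᵀ * (z : Matrix (Fin 3) (Fin 3) F).map σ) * g.map σ := by
          rw [← e, Matrix.transpose_mul, Matrix.map_mul]; simp only [mul_assoc]
      _ = gᵀ * g.map σ := by rw [h1, mul_one]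
  set G := gᵀ * g.map σ with hG
  have hGd : ∀ i j, i ≠ j → G i j = 0 := by
    intro i j hij
    have h1 := congrFun₂ (hgen h.a _ h.aR h.ha) i j
    rw [amat, Matrix.diagonal_transpose, Matrix.diagonal_map (map_zero σ), Matrix.mul_diagonal,
      Matrix.diagonal_mul, ← hd] at h1
    have hne : d i * σ (d j) ≠ 1 := by
      have hdp : ∀ k : Fin 3, d k = h.lam ^ (k : ℕ) := fun k => by fin_cases k <;> simp [hd]
      rw [hdp, hdp, map_pow, hσl, ← pow_mul, ← pow_add, Ne, h.prim.pow_eq_one_iff_dvd]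
      exact (show ∀ i j : Fin 3, i ≠ j → ¬ 3 ∣ i.val + 2 * j.val by decide) i j hij
    have h2 : (d i * σ (d j) - 1) * G i j = 0 := by linear_combination h1
    exact (mul_eq_zero.1 h2).resolve_left (sub_ne_zero.2 hne)
  have hBG := hgen h.b _ h.bR h.hb
  have hbσ : (bmat : Matrix (Fin 3) (Fin 3) F).map σ = bmat := by
    ext i j; fin_cases i <;> fin_cases j <;> simp [bmat]
  rw [hbσ] at hBG
  have hGc : G = G 0 0 • (1 : Matrix (Fin 3) (Fin 3) F) := by
    have h00 := congrFun₂ hBG 0 0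
    have h11 := congrFun₂ hBG 1 1
    simp [bmat, Matrix.mul_apply, Fin.sum_univ_three] at h00 h11
    ext i j
    by_cases hij : i = j
    · subst hij
      fin_cases i <;> simp [h00, h11]
    · simp [Matrix.one_apply_ne hij, hGd i j hij]
  have hσc : σ (G 0 0) = G 0 0 := by simp [hG, Matrix.mul_apply, map_sum, hq.involutive, mul_comm]
  have hc0 : G 0 0 ≠ 0 := fun e => by
    rw [e, zero_smul] at hGc
    have h1 := congrArg Matrix.det hGc
    rw [hG, Matrix.det_mul, Matrix.det_transpose, Matrix.det_zero, ← RingEquiv.coe_toRingHom,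
      ← RingHom.mapMatrix_apply, ← RingHom.map_det] at h1
    have hgd : g.det ≠ 0 := Matrix.GeneralLinearGroup.det_ne_zero h.g
    rcases mul_eq_zero.1 h1 with h2 | h2
    · exact hgd h2
    · exact hgd ((map_eq_zero _).1 h2)
  obtain ⟨l, hl⟩ := hq.exists_norm hF (b := (G 0 0)⁻¹) (by rw [map_inv₀, hσc])
  have hgram : (l • g)ᵀ * (l • g).map σ = 1 := by
    rw [Matrix.transpose_smul, Matrix.map_smul' _ _ g (map_mul σ), Matrix.smul_mul, Matrix.mul_smul, smul_smul, ← hG,
      hGc, smul_smul, hl, inv_mul_cancel₀ hc0, one_smul]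
  have hdet0 : (l • g).det ≠ 0 := fun e => by
    have h1 := congrArg Matrix.det hgram
    rw [Matrix.det_mul, Matrix.det_transpose, e, zero_mul, Matrix.det_one] at h1
    exact zero_ne_one h1
  set P := Matrix.GeneralLinearGroup.mkOfDetNeZero _ hdet0 with hPdef
  have hPU : P ∈ Cfsg.GU 3 F 5 := mem_GU_of_mul hq hgram
  have hco : ∀ (z : GL (Fin 3) F) (X : Matrix (Fin 3) (Fin 3) F),
      (z : Matrix (Fin 3) (Fin 3) F) = g * X * ((h.g⁻¹ : GL (Fin 3) F) : Matrix (Fin 3) (Fin 3) F) →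
      ((P⁻¹ * z * P : GL (Fin 3) F) : Matrix (Fin 3) (Fin 3) F) = X := by
    intro z X hzX
    have e : (z : Matrix (Fin 3) (Fin 3) F) * (P : Matrix (Fin 3) (Fin 3) F) = (P : Matrix (Fin 3) (Fin 3) F) * X := by
      show _ * (l • g) = (l • g) * X
      rw [Matrix.mul_smul, Matrix.smul_mul, hzX, mul_assoc, hg, Units.inv_mul, mul_one]
    rw [Units.val_mul, Units.val_mul, mul_assoc, e, ← mul_assoc, Units.inv_mul, one_mul]
  have hamat : ∀ n : ℕ, amat h.lam ^ n = amat (h.lam ^ n) := fun n => by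
    rw [amat, amat, Matrix.diagonal_pow]
    congr 1
    funext k
    fin_cases k <;> simp [← pow_mul, mul_comm]
  have hinv : ∀ z ∈ R, ((P⁻¹ * z⁻¹ * P : GL (Fin 3) F) : Matrix (Fin 3) (Fin 3) F) =
      Asch.adj σ ((P⁻¹ * z * P : GL (Fin 3) F) : Matrix (Fin 3) (Fin 3) F) := by
    intro z hz
    rw [Asch.adj_gu hq ((Cfsg.GU 3 F 5).mul_mem ((Cfsg.GU 3 F 5).mul_mem ((Cfsg.GU 3 F 5).inv_mem hPU) (hRU hz)) hPU)]
    exact congrArg Units.val (by group)
  have hlamL : h.lam ^ i = L := by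
    rw [← hie, ← pow_mul]
    interval_cases i
    · exact absurd rfl hi0
    · rw [pow_one]
    · rw [show 2 * 2 = 3 + 1 from rfl, pow_add, hL3, one_mul, pow_one]
  refine ⟨P, hPU, fun z hz => ?_, ⟨h.a ^ i, R.pow_mem h.aR i, ?_⟩, h.b, h.bR, by rw [hco _ _ h.hb, toM_heisB hr]⟩
  · rw [h.gen] at hz
    induction hz using Subgroup.closure_induction with
    | mem z hz =>
      rcases hz with rfl | rfl
      · rw [hco _ _ h.ha]
        have e : h.lam = L ^ i := hie.symm
        interval_cases i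
        · exact absurd rfl hi0
        · exact ⟨_, hA, by rw [toM_heisA hr, e, pow_one]⟩
        · refine ⟨mulM (heisA cubeRoot) (heisA cubeRoot), (hclos _ hA).2 _ hA, ?_⟩
          rw [toM_mul hr, toM_heisA hr, ← hL, e]
          ext a b
          fin_cases a <;> fin_cases b <;> simp [amat, Matrix.mul_apply, Fin.sum_univ_three] <;> ring
      · exact ⟨_, hB, by rw [hco _ _ h.hb, toM_heisB hr]⟩
    | one => exact ⟨onem, honem, by simp [toM_one hr]⟩
    | mul x y _ _ hx hy =>
      obtain ⟨a, ha, hax⟩ := hx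
      obtain ⟨b, hb, hby⟩ := hy
      refine ⟨mulM a b, (hclos a ha).2 b hb, ?_⟩
      rw [show P⁻¹ * (x * y) * P = P⁻¹ * x * P * (P⁻¹ * y * P) by group, Units.val_mul, hax, hby, toM_mul hr]
    | inv x hxm hx =>
      obtain ⟨a, ha, hax⟩ := hx
      exact ⟨cadj a, (hclos a ha).1, by rw [hinv x (h.gen ▸ hxm), hax, toM_cadj hr]⟩
  · rw [show P⁻¹ * h.a ^ i * P = (P⁻¹ * h.a * P) ^ i by
        have e := conj_pow (a := P⁻¹) (b := h.a) (i := i); rw [inv_inv] at e; exact e.symm,
      Units.val_pow_eq_pow_val, hco _ _ h.ha, hamat, hlamL, toM_heisA hr]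

/-- The normaliser of an extraspecial group of order 27 in SU₃(5) is not maximal. -/
theorem heis_five_not_maximal (hq : IsQPow σ 5) (hF : Fintype.card F = 5 ^ 2) (hr : IsRoot σ 5 r)
    {R : Subgroup (GL (Fin 3) F)} (hRU : R ≤ Cfsg.GU 3 F 5) (hR : Nat.card R = 27) (hRe : Monoid.exponent R = 3)
    (hRna : ¬ IsMulCommutative R) {H : Subgroup (GL (Fin 3) F)} (hH : IsMaximalIn (SUg 3 F 5) H)
    (hle : H ≤ subgroupNormalizer R) : False := by
  classical
  haveI := hr.char
  obtain ⟨P, hP, hlist, ⟨A0, hA0R, hA0⟩, B0, hB0R, hB0⟩ := exists_heis_coords hq hF hr hRU hR hRe hRna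
  have hconjR : ∀ h ∈ H, ∀ z ∈ R, h * z * h⁻¹ ∈ R := fun h hh z hz => (Subgroup.mem_normalizer_iff.1 (hle hh) z).1 hz
  have htoP : ∀ h ∈ H, ∀ z ∈ R, ∃ c ∈ heisList cubeRoot,
      ((P⁻¹ * h * P : GL (Fin 3) F) : Matrix (Fin 3) (Fin 3) F) * ((P⁻¹ * z * P : GL (Fin 3) F) :
        Matrix (Fin 3) (Fin 3) F) = toM r c * ((P⁻¹ * h * P : GL (Fin 3) F) : Matrix (Fin 3) (Fin 3) F) := by
    intro h hh z hz
    obtain ⟨c, hc, e⟩ := hlist _ (hconjR h hh z hz)
    refine ⟨c, hc, ?_⟩
    rw [← e, ← Units.val_mul, ← Units.val_mul]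
    exact congrArg Units.val (by group)
  refine not_maximal hr hq extraFive_ok hH hP (fun h hh => ?_) (fun w hwv hwH => ?_)
  · set g := P⁻¹ * h * P with hgdef
    have hgS : g ∈ SUg 3 F 5 := ⟨(Cfsg.GU 3 F 5).mul_mem ((Cfsg.GU 3 F 5).mul_mem ((Cfsg.GU 3 F 5).inv_mem hP)
      (hH.1.le hh).1) hP, by
      show Matrix.GeneralLinearGroup.det (P⁻¹ * h * P) = 1
      rw [map_mul, map_mul, show Matrix.GeneralLinearGroup.det h = 1 from (hH.1.le hh).2, mul_one, ← map_mul,
        inv_mul_cancel, map_one]⟩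
    obtain ⟨x, hx⟩ := exists_toM hr (g : Matrix (Fin 3) (Fin 3) F)
    have hxs := isSU_of_mem hr hq hgS hx
    have hxu : mulM (cadj x) x = onem := by
      simp only [isSU, Bool.and_eq_true, beq_iff_eq] at hxs
      exact hxs.1
    obtain ⟨y, hy, hye⟩ := htoP h hh A0 hA0R
    obtain ⟨z, hz, hze⟩ := htoP h hh B0 hB0R
    rw [hA0, ← hx, toM_heisA hr] at hye
    rw [hB0, ← hx, toM_heisB hr] at hze
    set X := toM r x with hX
    set u := mulV x (unitCode 0 : CV 5) with hu
    have hu1 : dot u (vconj u) = c1 := dot_conj_self_eq_one hr hxu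
    have huX : toV r u = fun k => X k 0 := toM_mulVec_single hr x 0
    have hu0 : toV r u ≠ 0 := fun e => by
      have h1 := congrArg (cd r) hu1
      rw [dot_eq hr, e, zero_dotProduct, cd_c1 hr] at h1
      exact zero_ne_one h1
    have hcol : ∀ j, X *ᵥ Pi.single j 1 = fun k => X k j := fun j => by
      rw [Matrix.mulVec_single_one]; rfl
    have hYu : toM r y *ᵥ toV r u = toV r u := by
      rw [huX, ← hcol, Matrix.mulVec_mulVec, ← hye, ← Matrix.mulVec_mulVec]
      congr 1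
      funext k
      fin_cases k <;> simp [amat, Matrix.mulVec_diagonal]
    have hy1 : y ≠ onem := by
      intro e
      rw [e, toM_one hr, one_mul] at hye
      have hXu : IsUnit X := ⟨g, hx.symm⟩
      have h1 : amat (cd r cubeRoot) = 1 := hXu.mul_left_cancel (hye.trans (mul_one X).symm)
      have hd := heisData_five
      simp only [heisData, Bool.and_eq_true, bne_iff_ne] at hd
      refine hd.1.1.1.1.1.1.2 (eq_of_cd hr ?_)
      rw [cd_c1 hr]
      simpa [amat] using congrFun₂ h1 1 1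
    have hpts := heisPoints_five
    simp only [heisPoints, Bool.and_eq_true, List.all_eq_true, Bool.or_eq_true, beq_iff_eq, List.any_eq_true] at hpts
    have hSu : (1 + toM r y + toM r y * toM r y) *ᵥ toV r u = (3 : F) • toV r u := by
      rw [Matrix.add_mulVec, Matrix.add_mulVec, Matrix.one_mulVec, ← Matrix.mulVec_mulVec, hYu, hYu]
      funext k; simp; ring
    have h3 : (3 : F) ≠ 0 := by
      intro e
      have h : ((3 : ℕ) : F) = 0 := by exact_mod_cast e
      rw [CharP.cast_eq_zero_iff F 5] at h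
      norm_num at h
    have hdecomp : toV r u = (toV r u 0) • Pi.single 0 1 + (toV r u 1) • Pi.single 1 1 + (toV r u 2) • Pi.single 2 1 := by
      funext k; fin_cases k <;> simp
    obtain ⟨he0, he1, he2⟩ := toV_e hr
    have h3u : (3 : F) • toV r u ≠ 0 := smul_ne_zero h3 hu0
    rcases hpts.2 y hy with (e | ⟨⟨z0, z1⟩, z2⟩) | ⟨v, hv, ⟨⟨k0, k1⟩, k2⟩⟩
    · exact absurd e hy1
    · exfalso
      apply h3u
      have hz : toV r (((c0, c0, c0)) : CV 5) = 0 := by funext k; fin_cases k <;> simp [toV, cd_c0 hr]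
      have f0 := congrArg (toV r) z0; have f1 := congrArg (toV r) z1; have f2 := congrArg (toV r) z2
      rw [toV_sumV hr, he0, hz] at f0; rw [toV_sumV hr, he1, hz] at f1; rw [toV_sumV hr, he2, hz] at f2
      rw [← hSu, hdecomp, Matrix.mulVec_add, Matrix.mulVec_add, Matrix.mulVec_smul, Matrix.mulVec_smul,
        Matrix.mulVec_smul, f0, f1, f2]
      simp
    · have hc3 : cd r (c3 : Cd 5) = 3 := by rw [c3, cd_add hr, cd_add hr, cd_c1 hr]; norm_num
      have f0 := congrArg (toV r) k0; have f1 := congrArg (toV r) k1; have f2 := congrArg (toV r) k2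
      rw [toV_sumV hr, he0, toV_smul hr, cd_mul hr, hc3, cd_conj hr] at f0
      rw [toV_sumV hr, he1, toV_smul hr, cd_mul hr, hc3, cd_conj hr] at f1
      rw [toV_sumV hr, he2, toV_smul hr, cd_mul hr, hc3, cd_conj hr] at f2
      set δ := toV r u 0 * σ (cd r v.1) + toV r u 1 * σ (cd r v.2.1) + toV r u 2 * σ (cd r v.2.2) with hδdef
      have huv : toV r u = δ • toV r v := by
        apply smul_right_injective (Fin 3 → F) h3
        show (3 : F) • toV r u = (3 : F) • (δ • toV r v)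
        rw [← hSu, hdecomp, Matrix.mulVec_add, Matrix.mulVec_add, Matrix.mulVec_smul, Matrix.mulVec_smul,
          Matrix.mulVec_smul, f0, f1, f2, hδdef]
        simp only [smul_smul, ← add_smul]
        congr 1
        ring
      have hv1 := congrArg (cd r) (hpts.1 v hv)
      rw [dot_eq hr, toV_conj hr, cd_c1 hr] at hv1
      have hδ : δ * σ δ = 1 := by
        have h1 := congrArg (cd r) hu1
        rw [dot_eq hr, toV_conj hr, cd_c1 hr, huv,
          show (fun k => σ ((δ • toV r v) k)) = σ δ • fun k => σ (toV r v k) from funext fun k => map_mul σ _ _,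
          smul_dotProduct, dotProduct_smul, hv1, smul_eq_mul, smul_eq_mul, mul_one] at h1
        exact h1
      have hδ0 : δ ≠ 0 := fun e => zero_ne_one (α := F) (by rw [← hδ, e, zero_mul])
      have hstep : ∀ j k : Fin 3, (bmat : Matrix (Fin 3) (Fin 3) F) *ᵥ Pi.single j 1 = Pi.single k 1 →
          (fun i => X i k) = toM r z *ᵥ fun i => X i j := by
        intro j k e
        rw [← hcol, ← hcol, ← e, Matrix.mulVec_mulVec, Matrix.mulVec_mulVec, hze]
      have hb01 : (bmat : Matrix (Fin 3) (Fin 3) F) *ᵥ Pi.single 0 1 = Pi.single 1 1 := by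
        funext i; fin_cases i <;> simp [bmat]
      have hb12 : (bmat : Matrix (Fin 3) (Fin 3) F) *ᵥ Pi.single 1 1 = Pi.single 2 1 := by
        funext i; fin_cases i <;> simp [bmat]
      set a := cols v (mulV z v) (mulV z (mulV z v)) with ha
      have c00 : (fun i => X i 0) = δ • toV r v := huX ▸ huv
      have c11 : (fun i => X i 1) = δ • toV r (mulV z v) := by
        rw [hstep 0 1 hb01, c00, Matrix.mulVec_smul, toV_mulV hr]
      have c22 : (fun i => X i 2) = δ • toV r (mulV z (mulV z v)) := by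
        rw [hstep 1 2 hb12, c11, Matrix.mulVec_smul, toV_mulV hr z (mulV z v)]
      have hXa : X = δ • toM r a := by
        ext i j
        rw [Matrix.smul_apply, ha, toM_cols hr, smul_eq_mul]
        fin_cases j
        · exact congrFun c00 i
        · exact congrFun c11 i
        · exact congrFun c22 i
      have hσδ : σ δ⁻¹ * δ⁻¹ = 1 := by rw [map_inv₀, ← mul_inv, mul_comm, hδ, inv_one]
      have haX : toM r a = δ⁻¹ • X := by rw [hXa, smul_smul, inv_mul_cancel₀ hδ0, one_smul]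
      have hXX : Asch.adj σ X * X = 1 := by
        rw [hX, ← toM_cadj hr, ← toM_mul hr, hxu, toM_one hr]
      have haa : mulM (cadj a) a = onem := by
        apply toM_injective hr
        rw [toM_mul hr, toM_cadj hr, toM_one hr, haX, Asch.adj_smul, Matrix.smul_mul, Matrix.mul_smul, smul_smul, hσδ,
          one_smul, hXX]
      have hdet : X.det = 1 := by
        rw [hx]
        exact congrArg Units.val (show Matrix.GeneralLinearGroup.det g = 1 from hgS.2)
      have hdd := det_sq_of_smul hr hq rfl hdet hδ hXa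
      have hay : mulM (mulM a (heisA cubeRoot)) (cadj a) = y := by
        apply toM_injective hr
        rw [toM_mul hr, toM_mul hr, toM_cadj hr, toM_heisA hr, haX, Asch.adj_smul, Matrix.smul_mul, Matrix.mul_smul,
          Matrix.smul_mul, smul_smul, hσδ, one_smul, hye, mul_assoc, mul_eq_one_comm.1 hXX, mul_one]
      have hk := List.all_eq_true.1 (List.all_eq_true.1 heisKeep_five v hv) z hz
      rw [← ha] at hk
      simp only [haa, hdd, hay, List.contains_iff_mem.2 hy, bne_self_eq_false, Bool.not_true, Bool.false_or] at hk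
      exact ⟨a, δ, hδ0, hk, hx.symm.trans hXa⟩
  · have hout := heisOut_five
    simp only [heisOut, Bool.or_eq_true, Bool.not_eq_true', List.contains_eq_mem, decide_eq_false_iff_not] at hout
    have hwS : w ∈ Cfsg.GU 3 F 5 := by
      rw [show w = P⁻¹ * (P * w * P⁻¹) * P by group]
      exact (Cfsg.GU 3 F 5).mul_mem ((Cfsg.GU 3 F 5).mul_mem ((Cfsg.GU 3 F 5).inv_mem hP) (hH.1.le hwH).1) hP
    have key : ∀ z ∈ R, ∀ b : CM 5, ((P⁻¹ * z * P : GL (Fin 3) F) : Matrix (Fin 3) (Fin 3) F) = toM r b →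
        mulM (mulM extraFive.w b) (cadj extraFive.w) ∈ heisList cubeRoot := by
      intro z hz b hb
      obtain ⟨c, hc, e⟩ := htoP _ hwH z hz
      rw [show P⁻¹ * (P * w * P⁻¹) * P = w by group, hb, hwv] at e
      convert hc using 1
      apply toM_injective hr
      rw [toM_mul hr, toM_mul hr, e, toM_cadj hr, ← hwv, Asch.adj_gu hq hwS, mul_assoc, Units.mul_inv, mul_one]
    rcases hout with e | e
    · exact e (key A0 hA0R _ hA0)
    · exact e (key B0 hB0R _ hB0)

end CfsgLib.Geo.AschThree
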