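/-
In SU₃(5) the stabiliser of three orthogonal lines is not maximal.
-/
import Cfsg.Agent.Lib.Geo.AschThree.CheckOk
import Cfsg.Agent.Lib.Geo.AschThree.CheckMon
import Cfsg.Agent.Lib.Geo.AschThree.Tools

set_option autoImplicit false

namespace CfsgLib.Geo.AschThree

open Matrix Cfsg.Geo
open CfsgLib.Geo.Asch (IsQPow SUg exists_isQPow exists_orthonormal_monomial)

theorem unitCode_triple (τ : Fin 3 → Fin 3) (hτ : Function.Injective τ) :
    ((unitCode (τ 0) : CV 5), (unitCode (τ 1) : CV 5), (unitCode (τ 2) : CV 5)) ∈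
      [((e0v : CV 5), (e1v : CV 5), (e2v : CV 5)), (e0v, e2v, e1v), (e1v, e0v, e2v), (e1v, e2v, e0v), (e2v, e0v, e1v),
        (e2v, e1v, e0v)] := by
  have key : ∀ i j k : Fin 3, i ≠ j → i ≠ k → j ≠ k →
      List.contains [((e0v : CV 5), (e1v : CV 5), (e2v : CV 5)), (e0v, e2v, e1v), (e1v, e0v, e2v), (e1v, e2v, e0v),
        (e2v, e0v, e1v), (e2v, e1v, e0v)] ((unitCode i : CV 5), (unitCode j : CV 5), (unitCode k : CV 5)) = true := by
    decide +kernel
  exact List.contains_iff_mem.1 (key _ _ _ (hτ.ne (by decide)) (hτ.ne (by decide)) (hτ.ne (by decide)))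

variable {F : Type*} [Field F] [Fintype F]

/-- The stabiliser of three orthogonal lines in SU₃(5) is not maximal. -/
theorem lines_five_not_maximal (hF : Fintype.card F = 5 ^ 2) {D : Fin 3 → Submodule F (Fin 3 → F)}
    (hD : IsNondegenerateMDecomposition (Cfsg.hermForm 3 F 5) 1 D) {H : Subgroup (GL (Fin 3) F)}
    (hH : IsMaximalIn (SUg 3 F 5) H) (hle : H ≤ decompositionStabilizer D) : False := by
  classical
  obtain ⟨σ, hq⟩ := exists_isQPow hF
  obtain ⟨r, hr⟩ := exists_root hq hF (Or.inr rfl)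
  obtain ⟨B, hBU, hB⟩ := exists_orthonormal_monomial hq hF hD
  refine not_maximal hr hq monFive_ok hH hBU (fun h hh => ?_) (fun w hwv hwH => ?_)
  · obtain ⟨τ, c, hcn, hc⟩ := hB h (hH.1.le hh).1 (hle hh)
    set g : Matrix (Fin 3) (Fin 3) F := ((B⁻¹ * h * B : GL (Fin 3) F) : Matrix (Fin 3) (Fin 3) F) with hg
    have hc0 : c 0 ≠ 0 := fun e => zero_ne_one (α := F) (by rw [← hcn 0, e, zero_mul])
    obtain ⟨x, hx⟩ := hr.bij.2 (c 1 / c 0)
    obtain ⟨y, hy⟩ := hr.bij.2 (c 2 / c 0)
    have hn : ∀ i, c i / c 0 * σ (c i / c 0) = 1 := fun i => by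
      rw [map_div₀, div_mul_div_comm, hcn, hcn, div_one]
    have hxn : cmul x (cconj x) = c1 := norm_code hr (by rw [hx]; exact hn 1)
    have hyn : cmul y (cconj y) = c1 := norm_code hr (by rw [hy]; exact hn 2)
    let a : CM 5 := monM (unitCode (τ 0)) (unitCode (τ 1)) (unitCode (τ 2)) x y
    have hga : g = c 0 • toM r a := by
      ext i j
      obtain ⟨i, rfl⟩ := τ.surjective i
      rw [hc, Matrix.smul_apply, smul_eq_mul, show a = cols _ _ _ from rfl, toM_cols hr]
      fin_cases j <;>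
        simp [toV_smul hr, toV_unitCode hr, hx, hy, Pi.single_apply] <;>
        split_ifs with he <;> simp_all [mul_div_cancel₀]
    have hdet : g.det = 1 := by
      rw [hg, Units.val_mul, Units.val_mul, Matrix.det_units_conj']
      exact congrArg Units.val (show Matrix.GeneralLinearGroup.det h = 1 from (hH.1.le hh).2)
    refine ⟨a, c 0, hc0, ?_, hga⟩
    have hm := List.all_eq_true.1 (List.all_eq_true.1 (List.all_eq_true.1 monKeep_five _ (unitCode_triple τ τ.injective)) x
      (List.mem_filter.2 ⟨mem_allC x, by simpa using hxn⟩)) y (List.mem_filter.2 ⟨mem_allC y, by simpa using hyn⟩)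
    simpa [det_sq_of_smul hr hq rfl hdet (hcn 0) hga, a] using hm
  · obtain ⟨τ, c, -, hc⟩ := hB _ (hH.1.le hwH).1 (hle hwH)
    rw [show B⁻¹ * (B * w * B⁻¹) * B = w by group, hwv] at hc
    have hh := monW_five
    rw [Bool.and_eq_true, bne_iff_ne, bne_iff_ne] at hh
    obtain ⟨i, hi⟩ := τ.surjective 0
    obtain ⟨k, hk⟩ := τ.surjective 1
    have h0 := hc i 0
    have h1 := hc k 0
    rw [hi] at h0
    rw [hk] at h1
    by_cases hi0 : i = 0
    · have hk0 : k ≠ 0 := by
        intro e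
        rw [hi0] at hi
        rw [e, hi] at hk
        exact absurd hk (by decide)
      rw [if_neg hk0] at h1
      exact hh.2 (eq_of_cd hr (h1.trans (cd_c0 hr).symm))
    · rw [if_neg hi0] at h0
      exact hh.1 (eq_of_cd hr (h0.trans (cd_c0 hr).symm))

end CfsgLib.Geo.AschThree
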