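/-
The three-dimensional special unitary group is contained in none of the geometric subgroups.
-/
import Cfsg.Agent.Lib.Geo.Asch.UnitMax
import Cfsg.Agent.Lib.Geo.Asch.UnitFour

set_option autoImplicit false

namespace CfsgLib.Geo.AschThree

open Matrix Cfsg.Geo
open CfsgLib.Geo.Asch

variable {F : Type*} [Field F] [Fintype F] {σ : F ≃+* F} {q : ℕ}

theorem exists_trace_zero_ne (hq : IsQPow σ q) (hF : Fintype.card F = q ^ 2) (h3 : 3 ≤ q) :
    ∃ a : F, a ≠ 0 ∧ a + σ a = 0 ∧ 1 + a ≠ 0 := by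
  obtain ⟨a, ha0, ha⟩ := hq.exists_trace_zero
  by_cases h1 : 1 + a = 0
  · obtain ⟨x, hx⟩ : ∃ x : Fˣ, x ^ (q + 1) ≠ 1 := by
      by_contra! hall
      have h := (FiniteField.forall_pow_eq_one_iff F (q + 1)).1 hall
      rw [hF] at h
      have h2 := Nat.le_of_dvd (by omega) h
      have h4 : 3 * q ≤ q ^ 2 := by nlinarith
      omega
    set f := (x : F) * σ x with hf
    have hfσ : σ f = f := by rw [hf, map_mul, hq.involutive, mul_comm]
    have hf1 : f ≠ 1 := fun e => hx (Units.ext (by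
      rw [Units.val_pow_eq_pow_val, pow_succ', ← hq.eq_pow, Units.val_one, ← hf, e]))
    have hf0 : f ≠ 0 := mul_ne_zero x.ne_zero ((map_ne_zero σ).2 x.ne_zero)
    refine ⟨a * f, mul_ne_zero ha0 hf0, by rw [map_mul, hfσ, ← add_mul, ha, zero_mul], fun e => hf1 ?_⟩
    have ha1 : a = -1 := by linear_combination h1
    rw [ha1] at e
    linear_combination -e
  · exact ⟨a, ha0, ha, h1⟩

/-- SU₃ stabilises no three orthogonal lines. -/
theorem not_SU_le_lines (hq : IsQPow σ q) (hF : Fintype.card F = q ^ 2) (h3 : 3 ≤ q)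
    {D : Fin 3 → Submodule F (Fin 3 → F)} (hD : IsNondegenerateMDecomposition (Cfsg.hermForm 3 F q) 1 D) :
    ¬ SUg 3 F q ≤ decompositionStabilizer D := by
  classical
  intro hle
  obtain ⟨B, hBU, hB⟩ := exists_orthonormal_monomial hq hF hD
  obtain ⟨c, -, -, hc, -⟩ := exists_pair_norms hq hF
  obtain ⟨a, ha0, ha, ha1⟩ := exists_trace_zero_ne hq hF h3
  have hc0 : c ≠ 0 := fun e => by simp [e] at hc
  set u0 : Fin 3 → F := pairVec 0 1 c with hu0
  have hfix : ∀ x y, Cfsg.hermForm 3 F q ((B : Matrix (Fin 3) (Fin 3) F) *ᵥ x) ((B : Matrix (Fin 3) (Fin 3) F) *ᵥ y) =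
      Cfsg.hermForm 3 F q x y := fun x y => hBU x y
  have huu : Cfsg.hermForm 3 F q ((B : Matrix (Fin 3) (Fin 3) F) *ᵥ u0) ((B : Matrix (Fin 3) (Fin 3) F) *ᵥ u0) = 0 := by
    rw [hfix, hu0, herm_pairVec hq (by decide), hc, add_neg_cancel]
  obtain ⟨φ, hφ, hmem, hφx⟩ := exists_SU_transvection hq huu ha
  obtain ⟨τ, k, -, hk⟩ := hB _ hmem.1 (hle hmem)
  set t := transvectionGL φ ((B : Matrix (Fin 3) (Fin 3) F) *ᵥ u0) hφ with ht
  have hcol : ∀ i, ((B⁻¹ * t * B : GL (Fin 3) F) : Matrix (Fin 3) (Fin 3) F) i 0 =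
      (Pi.single 0 1 + a • u0 : Fin 3 → F) i := by
    intro i
    have e : ((B⁻¹ * t * B : GL (Fin 3) F) : Matrix (Fin 3) (Fin 3) F) *ᵥ Pi.single 0 1 = Pi.single 0 1 + a • u0 := by
      rw [Units.val_mul, Units.val_mul, ← Matrix.mulVec_mulVec, ← Matrix.mulVec_mulVec, ht, transvectionGL_mulVec,
        Matrix.mulVec_add, Matrix.mulVec_smul, mulVec_inv_cancel, mulVec_inv_cancel, hφx, hfix]
      congr 2
      rw [hermForm_eq hq, Fin.sum_univ_three]
      simp [hu0, pairVec]
    rw [← e, Matrix.mulVec_single_one]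
    rfl
  obtain ⟨i, hi⟩ := τ.surjective 0
  obtain ⟨j, hj⟩ := τ.surjective 1
  have h0 := hk i 0
  have h1 := hk j 0
  rw [hi, hcol] at h0
  rw [hj, hcol] at h1
  simp [hu0, pairVec] at h0 h1
  by_cases hi0 : i = 0
  · subst hi0
    by_cases hj0 : j = 0
    · subst hj0
      rw [hi] at hj
      exact absurd hj (by decide)
    · rw [if_neg hj0] at h1
      exact mul_ne_zero ha0 hc0 h1
  · rw [if_neg hi0] at h0
    exact ha1 h0

/-- SU₃ is in no subfield group. -/
theorem not_SU_le_subfield (hq : IsQPow σ q) (hF : Fintype.card F = q ^ 2) {F₀ : Subfield F} (hF₀ : F₀ ≠ ⊤)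
    (P : GL (Fin 3) F) : ¬ SUg 3 F q ≤ subfieldSubgroup F₀ P := by
  intro hle
  have hf := isUnitaryForm_hermForm (n := 3) hq
  have hs := isSesqForm_of_unitary hf
  obtain ⟨c, d, hcd, hc, hd⟩ := exists_pair_norms hq hF
  set u : Fin 3 → F := pairVec 0 1 c with hu
  set u' : Fin 3 → F := pairVec 0 1 d with hu'
  have huu : Cfsg.hermForm 3 F q u u = 0 := by rw [hu, herm_pairVec hq (by decide), hc, add_neg_cancel]
  have hu'u' : Cfsg.hermForm 3 F q u' u' = 0 := by rw [hu', herm_pairVec hq (by decide), hd, add_neg_cancel]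
  have hne : Cfsg.hermForm 3 F q u u' ≠ 0 := by
    rw [hu, hu', herm_pairVec hq (by decide)]
    intro e
    have hσd : σ d ≠ 0 := fun e0 => by simp [e0] at hd
    exact hcd (mul_right_cancel₀ hσd (by linear_combination e - hd))
  have hσi : σ (Cfsg.hermForm 3 F q u u') ≠ 0 := (map_ne_zero σ).2 hne
  set κ := (σ (Cfsg.hermForm 3 F q u u'))⁻¹ with hκ
  set w := κ • u' with hw
  set v : Fin 3 → F := Pi.single 2 1 with hv
  have hww : Cfsg.hermForm 3 F q w w = 0 := by rw [hw, hs.smul_left, hs.smul_right, hu'u', mul_zero, mul_zero]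
  have huw : Cfsg.hermForm 3 F q u w = 1 := by
    rw [hw, hs.smul_right, hκ, map_inv₀, hq.involutive, inv_mul_cancel₀ hne]
  have hwu : Cfsg.hermForm 3 F q w u = 1 := by rw [hf.herm, huw, map_one]
  have huv : Cfsg.hermForm 3 F q u v = 0 := by
    rw [hermForm_eq hq, Fin.sum_univ_three]; simp [hu, hv, pairVec]
  have hu'v : Cfsg.hermForm 3 F q u' v = 0 := by
    rw [hermForm_eq hq, Fin.sum_univ_three]; simp [hu', hv, pairVec]
  have hwv : Cfsg.hermForm 3 F q w v = 0 := by rw [hw, hs.smul_left, hu'v, mul_zero]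
  have hvu : Cfsg.hermForm 3 F q v u = 0 := by rw [hf.herm, huv, map_zero]
  have hvw : Cfsg.hermForm 3 F q v w = 0 := by rw [hf.herm, hwv, map_zero]
  have hvv : Cfsg.hermForm 3 F q v v = 1 := by rw [hermForm_eq hq, Fin.sum_univ_three]; simp [hv]
  have hu0 : u ≠ 0 := fun e => by simpa [hu, pairVec] using congrFun e 0
  have hw0 : w ≠ 0 := fun e => zero_ne_one (α := F) (by rw [← huw, e, hs.map_zero_right])
  obtain ⟨s, U, hs0, hU, hU0, eu⟩ := rational_isotropic hq hle huu hu0
  obtain ⟨t, W, ht0, hW, hW0, ew⟩ := rational_isotropic hq hle hww hw0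
  -- every scalar times `t / s` is rational
  have hcoord : ∀ (x : Fin 3 → F), Cfsg.hermForm 3 F q x x = 0 → x ≠ 0 →
      ∃ (k : F) (R : Fin 3 → F), k ≠ 0 ∧ (∀ i, R i ∈ F₀) ∧ x = k • ((P : Matrix (Fin 3) (Fin 3) F) *ᵥ R) :=
    fun x hx hx0 => by
      obtain ⟨k, R, hk, hR, -, e⟩ := rational_isotropic hq hle hx hx0
      exact ⟨k, R, hk, hR, e⟩
  have hin : ∀ x : Fin 3 → F, Cfsg.hermForm 3 F q x u = 0 → Cfsg.hermForm 3 F q x w = 0 →
      Cfsg.hermForm 3 F q x v = 0 → x = 0 := by
    intro x h1 h2 h3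
    funext i
    have h4 : Cfsg.hermForm 3 F q x u' = 0 := by
      rw [hw, hs.smul_right] at h2
      exact (mul_eq_zero.1 h2).resolve_left ((map_ne_zero σ).2 (inv_ne_zero hσi))
    simp only [hermForm_eq hq, Fin.sum_univ_three, hu, hu', hv, pairVec] at h1 h3 h4
    simp at h1 h3 h4
    have h5 : x 1 * (σ c - σ d) = 0 := by linear_combination h1 - h4
    have h6 : x 1 = 0 := (mul_eq_zero.1 h5).resolve_right (sub_ne_zero.2 fun e => hcd (σ.injective e))
    rw [h6, zero_mul, add_zero] at h1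
    fin_cases i <;> simp [h1, h6, h3]
  have hPinj : ∀ A B : Fin 3 → F, (P : Matrix (Fin 3) (Fin 3) F) *ᵥ A = (P : Matrix (Fin 3) (Fin 3) F) *ᵥ B → A = B :=
    fun A B e => by
      simpa [mulVec_inv_cancel] using congrArg (((P⁻¹ : GL (Fin 3) F) : Matrix (Fin 3) (Fin 3) F) *ᵥ ·) e
  have htr : ∀ a : F, a + σ a = 0 → a * t / s ∈ F₀ := by
    intro a ha
    by_cases ha0 : a = 0
    · simp [ha0]
    have hne0 : u + a • w ≠ 0 := fun e => zero_ne_one (α := F) (by
      have := congrArg (fun z => Cfsg.hermForm 3 F q z w) e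
      simp only [hs.add_left, hs.smul_left, huw, hww, mul_zero, add_zero, hs.map_zero_left] at this
      exact this.symm)
    obtain ⟨k, R, hk, hR, er⟩ := hcoord (u + a • w) (by
      simp only [hs.add_left, hs.add_right, hs.smul_left, hs.smul_right, huu, hww, huw, hwu]
      linear_combination ha) hne0
    obtain ⟨i, j, hD⟩ : ∃ i j, U i * W j - U j * W i ≠ 0 := by
      by_contra! hall
      obtain ⟨i, hi⟩ := Function.ne_iff.1 hU0
      have hWU : W = (W i / U i) • U := funext fun j => by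
        rw [Pi.smul_apply, smul_eq_mul, div_mul_eq_mul_div, eq_div_iff hi]
        linear_combination hall i j
      rw [hWU, Matrix.mulVec_smul, smul_smul] at ew
      have e : w = (t * (W i / U i) * s⁻¹) • u := by
        conv_rhs => rw [eu, smul_smul, mul_assoc, inv_mul_cancel₀ hs0, mul_one]
        exact ew
      apply zero_ne_one (α := F)
      rw [← hwu, e, hs.smul_left, huu, mul_zero]
    have er' : s • U + (a * t) • W = k • R := hPinj _ _ (by
      rw [Matrix.mulVec_add, Matrix.mulVec_smul, Matrix.mulVec_smul, Matrix.mulVec_smul, ← er, ← eu, ← smul_smul, ← ew])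
    have hi := congrFun er' i
    have hj := congrFun er' j
    simp only [Pi.add_apply, Pi.smul_apply, smul_eq_mul] at hi hj
    have h1 : k * (R i * W j - R j * W i) = s * (U i * W j - U j * W i) := by
      linear_combination W i * hj - W j * hi
    have h2 : k * (U i * R j - U j * R i) = a * t * (U i * W j - U j * W i) := by
      linear_combination U j * hi - U i * hj
    have hA0 : R i * W j - R j * W i ≠ 0 := fun e => by
      rw [e, mul_zero] at h1
      exact mul_ne_zero hs0 hD h1.symm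
    have hx : a * t / s = (U i * R j - U j * R i) / (R i * W j - R j * W i) := by
      rw [eq_div_iff hA0, div_mul_eq_mul_div, div_eq_iff hs0]
      apply mul_left_cancel₀ hk
      linear_combination (a * t) * h1 - s * h2
    rw [hx]
    exact div_mem (sub_mem (mul_mem (hU i) (hR j)) (mul_mem (hU j) (hR i)))
      (sub_mem (mul_mem (hR i) (hW j)) (mul_mem (hR j) (hW i)))
  obtain ⟨a0, ha00, ha0⟩ := hq.exists_trace_zero
  have hts : t / s ≠ 0 := div_ne_zero ht0 hs0
  have hfixed : ∀ f : F, σ f = f → f ∈ F₀ := by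
    intro f hf'
    rw [show f = (f * a0 * t / s) / (a0 * t / s) by field_simp]
    exact div_mem (htr _ (by rw [map_mul, hf', ← mul_add, ha0, mul_zero])) (htr _ ha0)
  have hone : ∀ b : F, b + σ b = -1 → b * t / s ∈ F₀ := by
    intro b hb
    obtain ⟨ζ, hζ1, hζ⟩ : ∃ ζ : F, ζ ≠ 1 ∧ ζ * σ ζ = 1 := by
      have hd0 : d ≠ 0 := fun e => by simp [e] at hd
      refine ⟨c / d, fun e => hcd (by rwa [div_eq_one_iff_eq hd0] at e), ?_⟩
      rw [map_div₀, div_mul_div_comm, hc, hd, div_self (neg_ne_zero.2 one_ne_zero)]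
    have hiso : ∀ z : F, z * σ z = 1 → Cfsg.hermForm 3 F q (u + b • w + z • v) (u + b • w + z • v) = 0 := by
      intro z hz
      simp only [hs.add_left, hs.add_right, hs.smul_left, hs.smul_right, huu, hww, huw, hwu, huv, hvu, hwv, hvw, hvv]
      linear_combination hb + hz
    have hne1 : ∀ z : F, u + b • w + z • v ≠ 0 := fun z e => zero_ne_one (α := F) (by
      have := congrArg (fun x => Cfsg.hermForm 3 F q x w) e
      simp only [hs.add_left, hs.smul_left, huw, hww, hvw, mul_zero, add_zero, hs.map_zero_left] at this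
      exact this.symm)
    obtain ⟨k1, R1, hk1, hR1, e1⟩ := hcoord _ (hiso 1 (by simp)) (hne1 1)
    obtain ⟨k2, R2, hk2, hR2, e2⟩ := hcoord _ (hiso ζ hζ) (hne1 ζ)
    -- the matrix with columns `U`, `W`, `R1` over the subfield
    let M : Matrix (Fin 3) (Fin 3) F₀ := Matrix.of fun i j => ![⟨U i, hU i⟩, ⟨W i, hW i⟩, ⟨R1 i, hR1 i⟩] j
    have hMval : ∀ z : Fin 3 → F, (M.map F₀.subtype) *ᵥ z = z 0 • U + z 1 • W + z 2 • R1 := by
      intro z
      funext i
      simp [M, Matrix.mulVec, dotProduct, Fin.sum_univ_three, mul_comm]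
    have hker : ∀ z : Fin 3 → F, (M.map F₀.subtype) *ᵥ z = 0 → z = 0 := by
      intro z hz
      have h1 := congrArg ((P : Matrix (Fin 3) (Fin 3) F) *ᵥ ·) hz
      simp only [hMval, Matrix.mulVec_add, Matrix.mulVec_smul, Matrix.mulVec_zero] at h1
      rw [show (P : Matrix (Fin 3) (Fin 3) F) *ᵥ U = s⁻¹ • u by rw [eu, smul_smul, inv_mul_cancel₀ hs0, one_smul],
        show (P : Matrix (Fin 3) (Fin 3) F) *ᵥ W = t⁻¹ • w by rw [ew, smul_smul, inv_mul_cancel₀ ht0, one_smul],
        show (P : Matrix (Fin 3) (Fin 3) F) *ᵥ R1 = k1⁻¹ • (u + b • w + (1 : F) • v) by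
          rw [e1, smul_smul, inv_mul_cancel₀ hk1, one_smul]] at h1
      have q1 := congrArg (fun x => Cfsg.hermForm 3 F q x w) h1
      have q2 := congrArg (fun x => Cfsg.hermForm 3 F q x u) h1
      have q3 := congrArg (fun x => Cfsg.hermForm 3 F q x v) h1
      simp [hs.add_left, hs.smul_left, huu, hww, huw, hwu, huv, hvu, hwv, hvw, hvv, hs.map_zero_left, hs0, ht0, hk1]
        at q1 q2 q3
      have z2 : z 2 = 0 := by tauto
      simp [z2, hs0, ht0] at q1 q2
      funext i
      fin_cases i <;> simp [z2, q1, q2]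
    have hMu : IsUnit M := by
      rw [Matrix.isUnit_iff_isUnit_det, isUnit_iff_ne_zero]
      intro h0
      have h1 : (M.map F₀.subtype).det = 0 := by
        rw [← RingHom.mapMatrix_apply, ← RingHom.map_det, h0, map_zero]
      obtain ⟨z, hz0, hz⟩ := Matrix.exists_mulVec_eq_zero_iff.2 h1
      exact hz0 (hker z hz)
    -- coordinates of the second point
    set z : Fin 3 → F := ![(1 - ζ) * s, b * (1 - ζ) * t, ζ * k1] with hz
    have hz2 : (M.map F₀.subtype) *ᵥ z = k2 • R2 := hPinj _ _ (by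
      rw [hMval, Matrix.mulVec_add, Matrix.mulVec_add, Matrix.mulVec_smul, Matrix.mulVec_smul, Matrix.mulVec_smul,
        Matrix.mulVec_smul, ← e2]
      simp only [hz, Matrix.cons_val_zero, Matrix.cons_val_one, Matrix.cons_val]
      rw [mul_smul _ s, ← eu, mul_smul _ t, ← ew, mul_smul ζ k1, ← e1]
      module)
    set N := ((hMu.unit⁻¹ : GL (Fin 3) F₀) : Matrix (Fin 3) (Fin 3) F₀) with hN
    have hzN : z = k2 • ((N.map F₀.subtype) *ᵥ R2) := by
      rw [← Matrix.mulVec_smul, ← hz2, Matrix.mulVec_mulVec, ← Matrix.map_mul,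
        show N * M = 1 from hMu.val_inv_mul, Matrix.map_one _ (map_zero _) (map_one _), Matrix.one_mulVec]
    have hmem : ∀ i, ((N.map F₀.subtype) *ᵥ R2) i ∈ F₀ := fun i =>
      (sum_mem fun j _ => mul_mem (SetLike.coe_mem (N i j)) (hR2 j) : (∑ j, (N i j : F) * R2 j) ∈ F₀)
    have h0 := congrFun hzN 0
    have h1 := congrFun hzN 1
    simp only [hz, Matrix.cons_val_zero, Matrix.cons_val_one, Pi.smul_apply, smul_eq_mul] at h0 h1
    have hζ' : (1 : F) - ζ ≠ 0 := sub_ne_zero.2 hζ1.symm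
    have hR0 : ((N.map F₀.subtype) *ᵥ R2) 0 ≠ 0 := fun e => by
      rw [e, mul_zero] at h0
      exact mul_ne_zero hζ' hs0 h0
    rw [show b * t / s = ((N.map F₀.subtype) *ᵥ R2) 1 / ((N.map F₀.subtype) *ᵥ R2) 0 by
      rw [div_eq_div_iff hs0 hR0]
      apply mul_left_cancel₀ (mul_ne_zero hζ' hk2)
      linear_combination (-(((N.map F₀.subtype) *ᵥ R2) 1) * k2) * h0 + ((((N.map F₀.subtype) *ᵥ R2) 0) * k2) * h1]
    exact div_mem (hmem 1) (hmem 0)
  apply hF₀
  refine SetLike.ext fun y => iff_of_true ?_ (Subfield.mem_top y)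
  set x := y * s / t with hx
  rw [show y = x * t / s by rw [hx]; field_simp]
  clear_value x
  by_cases hT : x + σ x = 0
  · exact htr x hT
  · have hTσ : σ (x + σ x) = x + σ x := by rw [map_add, hq.involutive, add_comm]
    rw [show x * t / s = -(x + σ x) * ((-x / (x + σ x)) * t / s) by field_simp]
    refine mul_mem (neg_mem (hfixed _ hTσ)) (hone _ ?_)
    rw [map_div₀, map_neg, hTσ, ← add_div, div_eq_iff hT]
    ring

theorem no_prime_orbit (q : ℕ) (hq : q < 27) (i : ℕ) (hi : i < 3) (h3 : q % 3 = 2) (h5 : 5 ≤ q) (hp : q.Prime) :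
    ¬ q ∣ 27 - 3 ^ i := by
  interval_cases q <;> first | omega | (interval_cases i <;> first | (norm_num; done) | (norm_num at hp; done))

/-- SU₃ does not normalise an extraspecial group of order 27. -/
theorem not_SU_le_symp (hq : IsQPow σ q) (hF : Fintype.card F = q ^ 2) [CharP F q] (hp : q.Prime) (h5 : 5 ≤ q)
    (h3 : q % 3 = 2) {R : Subgroup (GL (Fin 3) F)} (hR : Nat.card R = 27)
    (habs : ActsAbsolutelyIrreducibly (matrixSet R)) : ¬ SUg 3 F q ≤ subgroupNormalizer R := by
  classical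
  intro hle
  haveI : Fact q.Prime := ⟨hp⟩
  haveI : Finite (GL (Fin 3) F) :=
    Finite.of_injective (fun g : GL (Fin 3) F => (g : Matrix (Fin 3) (Fin 3) F)) Units.val_injective
  haveI : Fintype R := Fintype.ofFinite R
  obtain ⟨x, hx, y, hy, hxy⟩ := not_abelian_of_absIrred habs
  obtain ⟨c, hc⟩ := scalar_of_commute_transvections hq hF le_rfl (k := (x : Matrix (Fin 3) (Fin 3) F))
    fun φ u hφ hmem => by
      set t := transvectionGL φ u hφ with ht
      have htq : t ^ q = 1 := Units.ext (by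
        haveI : CharP (Matrix (Fin 3) (Fin 3) F) q := Matrix.charP q
        have hNN : Matrix.vecMulVec u φ * Matrix.vecMulVec u φ = 0 := by
          rw [Matrix.vecMulVec_mul_vecMulVec, hφ, zero_smul, Matrix.vecMulVec_zero]
        rw [Units.val_pow_eq_pow_val, show (t : Matrix (Fin 3) (Fin 3) F) = 1 + Matrix.vecMulVec u φ from rfl,
          add_pow_char_of_commute (p := q) (h := Commute.one_left _), one_pow,
          pow_eq_zero_of_le hp.two_le (by rw [pow_two]; exact hNN), add_zero, Units.val_one])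
      have hn := hle hmem
      let f : Equiv.Perm R := (R.normalizerMonoidHom ⟨t, hn⟩).toEquiv
      have hf : ∀ z : R, ((f z : R) : GL (Fin 3) F) = t * z * t⁻¹ := fun z => rfl
      have hfq : f ^ q ^ 1 = 1 := by
        rw [pow_one]
        have e : (R.normalizerMonoidHom ⟨t, hn⟩) ^ q = 1 := by
          rw [← map_pow, show (⟨t, hn⟩ : Subgroup.normalizer (R : Set (GL (Fin 3) F))) ^ q = 1 from Subtype.ext htq,
            map_one]
        exact Equiv.ext fun z => by
          have h1 : ∀ (n : ℕ) (w : R), (f ^ n) w = ((R.normalizerMonoidHom ⟨t, hn⟩) ^ n) w := by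
            intro n
            induction n with
            | zero => intro w; rfl
            | succ n ih => intro w; rw [pow_succ, pow_succ]; exact ih _
          rw [h1, e]; rfl
      let C : Subgroup R := (Subgroup.centralizer {t}).subgroupOf R
      have hCfix : ∀ z : R, z ∈ C ↔ f z = z := by
        intro z
        rw [Subgroup.mem_subgroupOf, Subgroup.mem_centralizer_singleton_iff, ← Subtype.coe_inj, hf,
          mul_inv_eq_iff_eq_mul]
        exact eq_comm
      have hsupp : f.supportᶜ = Finset.univ.filter (fun z : R => z ∈ C) := by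
        ext z; simp [hCfix]
      have hcardC : f.supportᶜ.card = Nat.card C := by
        rw [hsupp, Nat.card_eq_fintype_card, Fintype.card_subtype]
      have hmod := Equiv.Perm.card_compl_support_modEq hfq
      rw [hcardC, ← Nat.card_eq_fintype_card, hR] at hmod
      obtain ⟨i, hi, hC⟩ := (Nat.dvd_prime_pow Nat.prime_three).1 (show Nat.card C ∣ 3 ^ 3 by
        have h1 := C.card_subgroup_dvd_card; rwa [hR] at h1)
      have hdvd : q ∣ 27 - 3 ^ i := (Nat.modEq_iff_dvd' (by interval_cases i <;> norm_num)).1 (hC ▸ hmod)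
      have htop : Nat.card C = 27 := by
        rw [hC]
        by_contra hne
        have hi3 : i < 3 := by
          by_contra h
          rw [show i = 3 by omega] at hne
          exact hne (by norm_num)
        have hq27 : q < 27 := by
          have h1 : 3 ^ i ≤ 3 ^ 2 := Nat.pow_le_pow_right (by norm_num) (by omega)
          have h2 := Nat.le_of_dvd (by omega) hdvd
          have h4 : 0 < 3 ^ i := Nat.pow_pos (by norm_num)
          omega
        exact no_prime_orbit q hq27 i hi3 h3 h5 hp hdvd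
      have hCtop : C = ⊤ := Subgroup.eq_top_of_card_eq _ (htop.trans hR.symm)
      have hxC := (hCfix ⟨x, hx⟩).1 (hCtop ▸ Subgroup.mem_top _)
      have h1 : t * x * t⁻¹ = x := congrArg Subtype.val hxC
      exact congrArg Units.val (mul_inv_eq_iff_eq_mul.1 h1)
  refine hxy (Units.ext ?_)
  rw [Units.val_mul, Units.val_mul, hc, Matrix.smul_mul, Matrix.mul_smul, one_mul, mul_one]

end CfsgLib.Geo.AschThree
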