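/-
In SU₃(3) and SU₃(5) a subfield group of index two is not maximal.
-/
import Cfsg.Agent.Lib.Geo.AschThree.CheckOk
import Cfsg.Agent.Lib.Geo.AschThree.CheckRat
import Cfsg.Agent.Lib.Geo.AschThree.Tools
import Cfsg.Agent.Lib.Geo.Asch.OrthGram

set_option autoImplicit false

namespace CfsgLib.Geo.AschThree

open Matrix Cfsg.Geo
open CfsgLib.Geo.Asch (IsQPow SUg mem_GU_of_mul isUnitaryForm_hermForm hermForm_eq)

variable {p : ℕ} [NeZero p]

/-- The nine entries. -/
def entries (a : CM p) : List (Cd p) :=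
  [a.1.1, a.1.2.1, a.1.2.2, a.2.1.1, a.2.1.2.1, a.2.1.2.2, a.2.2.1, a.2.2.2.1, a.2.2.2.2]

/-- Two entries with a ratio outside the prime field. -/
def ratOut (C : Cert p) : Bool := (entries C.w).any fun x => (entries C.w).any fun y => (cmul x (cconj y)).2 != 0

variable {F : Type*} [Field F] [Fintype F] {σ : F ≃+* F} {r : F}

omit [Fintype F] in
theorem exists_entry (hr : IsRoot σ p r) {a : CM p} {x : Cd p} (hx : x ∈ entries a) :
    ∃ i j, toM r a i j = cd r x := by
  simp only [entries, List.mem_cons, List.not_mem_nil, or_false] at hx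
  have := hr.odd
  rcases hx with h | h | h | h | h | h | h | h | h <;> subst h
  exacts [⟨0, 0, rfl⟩, ⟨0, 1, rfl⟩, ⟨0, 2, rfl⟩, ⟨1, 0, rfl⟩, ⟨1, 1, rfl⟩, ⟨1, 2, rfl⟩, ⟨2, 0, rfl⟩, ⟨2, 1, rfl⟩,
    ⟨2, 2, rfl⟩]

theorem adj_mul_self (hq : IsQPow σ p) {g : GL (Fin 3) F} (hg : g ∈ Cfsg.GU 3 F p) :
    (g : Matrix (Fin 3) (Fin 3) F)ᵀ * (g : Matrix (Fin 3) (Fin 3) F).map σ = 1 := by
  have h : Asch.adj σ (g : Matrix (Fin 3) (Fin 3) F) * (g : Matrix (Fin 3) (Fin 3) F) = 1 := by
    rw [Asch.adj_gu hq hg, Units.inv_mul]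
  have h2 := congrArg (fun M : Matrix (Fin 3) (Fin 3) F => Mᵀ) h
  simpa [Asch.adj] using h2

/-- A subfield group of index two is not maximal when the configuration is kept by the rotations. -/
theorem rational_not_maximal (hq : IsQPow σ p) (hF : Fintype.card F = p ^ 2) (hr : IsRoot σ p r) {C : Cert p}
    (hC : C.Ok) (hk : ratKeep C = true) (hout : ratOut C = true) {F₀ : Subfield F} {P : GL (Fin 3) F}
    (hcard : Fintype.card F = Nat.card F₀ ^ 2) (hP : IsFormRationalStructure (Cfsg.hermForm 3 F p) F₀ 1 P)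
    {H : Subgroup (GL (Fin 3) F)} (hH : IsMaximalIn (SUg 3 F p) H) (hle : H ≤ subfieldSubgroup F₀ P) : False := by
  classical
  haveI := hr.char
  haveI : Fintype F₀ := Fintype.ofFinite F₀
  have hp0 : Nat.card F₀ = p := Nat.pow_left_injective two_ne_zero (hcard.symm.trans hF)
  have hfix : ∀ z ∈ F₀, σ z = z := by
    intro z hz
    rw [hq.eq_pow]
    have h1 := congrArg Subtype.val (FiniteField.pow_card (⟨z, hz⟩ : F₀))
    rwa [← Nat.card_eq_fintype_card, hp0] at h1
  have hf := isUnitaryForm_hermForm (n := 3) hq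
  set Pm := (P : Matrix (Fin 3) (Fin 3) F) with hPm
  have hG : ∀ i j, (Pmᵀ * Pm.map σ) i j ∈ F₀ := by
    intro i j
    have h1 := hP (Pi.single i 1) (Pi.single j 1)
      (fun k => by rcases eq_or_ne k i with e | e <;> simp [e])
      (fun k => by rcases eq_or_ne k j with e | e <;> simp [e])
    simpa [hermForm_eq hq, Matrix.mul_apply, hPm] using h1
  let G0 : Matrix (Fin 3) (Fin 3) F₀ := Matrix.of fun i j => ⟨_, hG i j⟩
  have hG0 : G0.map F₀.subtype = Pmᵀ * Pm.map σ := by ext i j; rfl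
  have hsym : G0ᵀ = G0 := by
    ext i j
    show (Pmᵀ * Pm.map σ) j i = (Pmᵀ * Pm.map σ) i j
    rw [← hfix _ (hG i j)]
    simp [Matrix.mul_apply, map_sum, hq.involutive, mul_comm]
  have hGu : IsUnit G0 := by
    rw [Matrix.isUnit_iff_isUnit_det, isUnit_iff_ne_zero]
    intro h0
    have h1 := congrArg Matrix.det hG0
    rw [← RingHom.mapMatrix_apply, ← RingHom.map_det, h0, map_zero, Matrix.det_mul, Matrix.det_transpose,
      ← RingEquiv.coe_toRingHom, ← RingHom.mapMatrix_apply, ← RingHom.map_det] at h1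
    have hPd : Pm.det ≠ 0 := Matrix.GeneralLinearGroup.det_ne_zero P
    rcases mul_eq_zero.1 h1.symm with h2 | h2
    · exact hPd h2
    · exact hPd ((map_eq_zero _).1 h2)
  have h2 : (2 : F₀) ≠ 0 := by
    intro e
    have e' : ((2 : ℕ) : F) = 0 := by
      have := congrArg F₀.subtype e
      simpa [map_ofNat] using this
    rw [CharP.cast_eq_zero_iff F p] at e'
    rcases (Nat.dvd_prime Nat.prime_two).1 e' with h5 | h5
    · exact CharP.ringChar_ne_one (R := F) (by rw [ringChar.eq F p, h5])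
    · exact hr.odd h5
  obtain ⟨μ, M, hμ, hM⟩ := Asch.exists_congr_odd h2 (by decide) hGu isUnit_one hsym Matrix.transpose_one
  obtain ⟨l, hl⟩ := hq.exists_norm hF (hfix (μ : F) μ.2)
  have hl0 : l ≠ 0 := fun e => hμ (Subtype.ext (by rw [← hl, e, zero_mul]; rfl))
  set Mm := (M : Matrix (Fin 3) (Fin 3) F₀).map F₀.subtype with hMm
  have hMσ : Mm.map σ = Mm := by ext i j; exact hfix _ ((M : Matrix (Fin 3) (Fin 3) F₀) i j).2
  have hgram : (l • (Pm * Mm))ᵀ * (l • (Pm * Mm)).map σ = 1 := by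
    have e1 := congrArg (fun X : Matrix (Fin 3) (Fin 3) F₀ => X.map F₀.subtype) hM
    simp only [Matrix.map_one _ (map_zero F₀.subtype) (map_one F₀.subtype)] at e1
    rw [e1, show (μ • ((M : Matrix (Fin 3) (Fin 3) F₀)ᵀ * G0 * (M : Matrix (Fin 3) (Fin 3) F₀))).map F₀.subtype =
      (μ : F) • (Mmᵀ * (G0.map F₀.subtype) * Mm) by
        rw [hMm, ← Matrix.transpose_map, ← Matrix.map_mul, ← Matrix.map_mul]; ext i j; simp, hG0,
      Matrix.map_smul' _ _ (Pm * Mm) (map_mul σ), Matrix.map_mul, hMσ, Matrix.transpose_smul, Matrix.transpose_mul,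
      Matrix.smul_mul, Matrix.mul_smul, smul_smul, hl]
    simp only [mul_assoc]
  have hdet0 : (l • (Pm * Mm)).det ≠ 0 := fun e => by
    have h1 := congrArg Matrix.det hgram
    rw [Matrix.det_mul, Matrix.det_transpose, e, zero_mul, Matrix.det_one] at h1
    exact zero_ne_one h1
  set P' := Matrix.GeneralLinearGroup.mkOfDetNeZero _ hdet0 with hP'
  have hPU : P' ∈ Cfsg.GU 3 F p := mem_GU_of_mul hq hgram
  -- the elements in the new coordinates
  have hrat : ∀ h ∈ H, ∃ (d : F) (A : Matrix (Fin 3) (Fin 3) F), (∀ i j, σ (A i j) = A i j) ∧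
      ((P'⁻¹ * h * P' : GL (Fin 3) F) : Matrix (Fin 3) (Fin 3) F) = d • A := by
    intro h hh
    obtain ⟨k, hk', ek⟩ := hle hh
    obtain ⟨A₀, ⟨A, rfl⟩, z, hz, hprod⟩ :=
      Subgroup.mem_sup_of_normal_right.1 (show k ∈ _ ⊔ scalars (Fin 3) F from hk')
    obtain ⟨d, hd⟩ := (mem_scalars_iff z).1 hz
    refine ⟨d, ((M⁻¹ * A * M : GL (Fin 3) F₀) : Matrix (Fin 3) (Fin 3) F₀).map F₀.subtype,
      fun i j => hfix _ (SetLike.coe_mem _), ?_⟩
    have hMi : Mm * ((M⁻¹ : GL (Fin 3) F₀) : Matrix (Fin 3) (Fin 3) F₀).map F₀.subtype = 1 := by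
      rw [hMm, ← Matrix.map_mul, Units.mul_inv, Matrix.map_one _ (map_zero _) (map_one _)]
    have hk2 : (h : Matrix (Fin 3) (Fin 3) F) * Pm =
        d • (Pm * (A : Matrix (Fin 3) (Fin 3) F₀).map F₀.subtype) := by
      have e : h * P = P * k := by rw [← ek]; simp [mul_assoc]
      have e' := congrArg Units.val e
      rw [Units.val_mul, Units.val_mul, ← hprod, Units.val_mul, hd, Matrix.mul_smul, mul_one, Matrix.mul_smul] at e'
      exact e'
    set A' := ((M⁻¹ * A * M : GL (Fin 3) F₀) : Matrix (Fin 3) (Fin 3) F₀).map F₀.subtype with hA'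
    have hMA : Mm * A' = (A : Matrix (Fin 3) (Fin 3) F₀).map F₀.subtype * Mm := by
      rw [hA', hMm, ← Matrix.map_mul, ← Matrix.map_mul, Units.val_mul, Units.val_mul, ← mul_assoc, ← mul_assoc,
        Units.mul_inv, one_mul]
    have hhP : (h : Matrix (Fin 3) (Fin 3) F) * (P' : Matrix (Fin 3) (Fin 3) F) =
        (P' : Matrix (Fin 3) (Fin 3) F) * (d • A') := by
      show _ * (l • (Pm * Mm)) = (l • (Pm * Mm)) * _
      rw [Matrix.mul_smul, ← mul_assoc, hk2, Matrix.smul_mul, Matrix.smul_mul, Matrix.mul_smul, mul_assoc Pm Mm A',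
        hMA, mul_assoc Pm, smul_comm]
    rw [Units.val_mul, Units.val_mul, mul_assoc, hhP, ← mul_assoc, Units.inv_mul, one_mul, Units.smul_def]
  refine not_maximal hr hq hC hH hPU (fun h hh => ?_) (fun w hwv hwH => ?_)
  · obtain ⟨d, A, hAσ, hg⟩ := hrat h hh
    have hgU : P'⁻¹ * h * P' ∈ Cfsg.GU 3 F p :=
      (Cfsg.GU 3 F p).mul_mem ((Cfsg.GU 3 F p).mul_mem ((Cfsg.GU 3 F p).inv_mem hPU) (hH.1.le hh).1) hPU
    have hdet : (d • A).det = 1 := by
      rw [← hg, Units.val_mul, Units.val_mul, Matrix.det_units_conj']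
      exact congrArg Units.val (show Matrix.GeneralLinearGroup.det h = 1 from (hH.1.le hh).2)
    rw [Matrix.det_smul, Fintype.card_fin] at hdet
    have horth := adj_mul_self hq hgU
    rw [hg, Matrix.map_smul' _ _ A (map_mul σ), show A.map σ = A from Matrix.ext hAσ, Matrix.transpose_smul,
      Matrix.smul_mul, Matrix.mul_smul, smul_smul] at horth
    have hd : d ≠ 0 := fun e => by rw [e, zero_pow three_ne_zero, zero_mul] at hdet; exact zero_ne_one hdet
    have hσd : σ d ≠ 0 := fun e => hd (by simpa using e)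
    set m := (d * σ d)⁻¹ with hm
    have hmσ : σ m = m := by rw [hm, map_inv₀, map_mul, hq.involutive, mul_comm]
    have hAA : Aᵀ * A = m • (1 : Matrix (Fin 3) (Fin 3) F) := by
      rw [← horth, smul_smul, hm, inv_mul_cancel₀ (mul_ne_zero hd hσd), one_smul]
    have hm0 : m ≠ 0 := inv_ne_zero (mul_ne_zero hd hσd)
    have hdd : A.det * A.det = m ^ 3 := by
      have h1 := congrArg Matrix.det hAA
      rwa [Matrix.det_mul, Matrix.det_transpose, Matrix.det_smul, Matrix.det_one, mul_one, Fintype.card_fin] at h1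
    have hσA : σ A.det = A.det := by
      rw [← RingEquiv.coe_toRingHom, RingHom.map_det, RingHom.mapMatrix_apply]
      congr 1
      exact Matrix.ext hAσ
    set s := A.det / m with hs
    have hAd : A.det ≠ 0 := fun e => by rw [e, zero_mul] at hdd; exact pow_ne_zero 3 hm0 hdd.symm
    have hs0 : s ≠ 0 := div_ne_zero hAd hm0
    have hss : s * s = m := by
      rw [hs, div_mul_div_comm, hdd]
      field_simp
    set B := s⁻¹ • A with hB
    have hBB : Bᵀ * B = 1 := by
      rw [hB, Matrix.transpose_smul, Matrix.smul_mul, Matrix.mul_smul, smul_smul, hAA, smul_smul, ← mul_inv, hss,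
        inv_mul_cancel₀ hm0, one_smul]
    have hBd : B.det = 1 := by
      rw [hB, Matrix.det_smul, Fintype.card_fin, inv_pow, show s ^ 3 = A.det by
        rw [show s ^ 3 = (s * s) * s by ring, hss, hs, mul_div_cancel₀ _ hm0], inv_mul_cancel₀ hAd]
    have hBσ : ∀ i j, σ (B i j) = B i j := fun i j => by
      rw [hB, Matrix.smul_apply, smul_eq_mul, map_mul, map_inv₀, hAσ, hs, map_div₀, hσA, hmσ]
    choose n hn using fun i j => exists_prime_code hr (hBσ i j)
    let col : Fin 3 → CV p := fun j => ((n 0 j, 0), (n 1 j, 0), (n 2 j, 0))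
    have hcolv : ∀ j, toV r (col j) = fun i => B i j := by
      intro j
      funext i
      fin_cases i <;> simp [toV, col, hn]
    have hdot : ∀ i j, dot (col i) (col j) = if i = j then c1 else c0 := by
      intro i j
      apply eq_of_cd hr
      rw [dot_eq hr, hcolv, hcolv]
      have h1 := congrFun₂ hBB i j
      rw [Matrix.mul_apply, Matrix.one_apply] at h1
      simp only [Matrix.transpose_apply] at h1
      rw [dotProduct, h1]
      split_ifs <;> simp [cd_c0 hr, cd_c1 hr]
    have hmem : ∀ j, col j ∈ primeUnits p := fun j => by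
      simp only [primeUnits, List.mem_flatMap, List.mem_map, List.mem_filter, List.mem_finRange, true_and]
      exact ⟨n 0 j, n 1 j, n 2 j, by simpa [col] using (hdot j j).trans (if_pos rfl), rfl⟩
    have hBc : toM r (cols (col 0) (col 1) (col 2)) = B := by
      ext i j
      rw [toM_cols hr]
      fin_cases j <;> simp [hcolv]
    refine ⟨cols (col 0) (col 1) (col 2), d * s, mul_ne_zero hd hs0, ?_, ?_⟩
    · have hk' := List.all_eq_true.1 hk _ (hmem 0)
      have hk1 := List.all_eq_true.1 hk' _ (hmem 1)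
      rw [hdot 0 1, if_neg (by decide), bne_self_eq_false, Bool.false_or] at hk1
      have hk2 := List.all_eq_true.1 hk1 _ (hmem 2)
      have hd1 : det3 (cols (col 0) (col 1) (col 2)) = c1 :=
        eq_of_cd hr (by rw [← toM_det hr, hBc, hBd, cd_c1 hr])
      rw [hdot 0 2, hdot 1 2, if_neg (by decide), if_neg (by decide), hd1] at hk2
      simpa using hk2
    · rw [hBc, hg, hB, smul_smul, mul_assoc, mul_inv_cancel₀ hs0, mul_one]
  · obtain ⟨d, A, hAσ, hg⟩ := hrat _ hwH
    rw [show P'⁻¹ * (P' * w * P'⁻¹) * P' = w by group, hwv] at hg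
    simp only [ratOut, List.any_eq_true, bne_iff_ne] at hout
    obtain ⟨x, hx, y, hy, hxy⟩ := hout
    obtain ⟨i, j, hij⟩ := exists_entry hr hx
    obtain ⟨k, t, hkt⟩ := exists_entry hr hy
    refine hxy (conj_fixed hr ?_)
    rw [cd_mul hr, cd_conj hr, ← hij, ← hkt, hg]
    simp only [Matrix.smul_apply, smul_eq_mul, map_mul, hAσ, hq.involutive]
    ring

end CfsgLib.Geo.AschThree
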