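/-
The maximal subgroups of the three-dimensional special unitary groups.
-/
import Cfsg.Agent.Lib.Geo.AschThree.NotLe
import Cfsg.Agent.Lib.Geo.AschThree.Lines
import Cfsg.Agent.Lib.Geo.AschThree.Rational
import Cfsg.Agent.Lib.Geo.AschThree.Field
import Cfsg.Agent.Lib.Geo.AschThree.Heis

set_option autoImplicit false

namespace CfsgLib.Geo.AschThree

open Matrix Cfsg.Geo
open CfsgLib.Geo.Asch (IsQPow SUg exists_isQPow unitary_host IsHermRational IsUnitarySympData)

variable {F : Type*} [Field F] [Fintype F] {q : ℕ}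

theorem ratOut_five : ratOut ratFive = true := by decide +kernel

theorem ratOut_three : ratOut ratThree = true := by decide +kernel

/-- The maximal subgroups of SU₃. -/
theorem unitary_three_maximal (hF : Fintype.card F = q ^ 2) (h3q : 3 ≤ q) {H : Subgroup (GL (Fin 3) F)}
    (hH : IsMaximalIn (SUg 3 F q) H) :
    (∃ W : Submodule F (Fin 3 → F), W ≠ ⊥ ∧ IsTotallySingularFor (Cfsg.hermForm 3 F q) W ∧
      H = subspaceStabilizer W ⊓ SUg 3 F q) ∨
    (∃ W : Submodule F (Fin 3 → F), W ≠ ⊥ ∧ IsNondegenerateOn (Cfsg.hermForm 3 F q) W ∧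
      2 * Module.finrank F W < 3 ∧ H = subspaceStabilizer W ⊓ SUg 3 F q) ∨
    (q ≠ 5 ∧ ∃ D : Fin 3 → Submodule F (Fin 3 → F), IsNondegenerateMDecomposition (Cfsg.hermForm 3 F q) 1 D ∧
      H = decompositionStabilizer D ⊓ SUg 3 F q) ∨
    (q ≠ 3 ∧ q ≠ 5 ∧ ∃ K : Subalgebra F (Matrix (Fin 3) (Fin 3) F), IsFieldSubalgebra 3 K ∧
      IsAdjointClosedFor (Cfsg.hermForm 3 F q) K ∧ H = subalgebraNormalizer K ⊓ SUg 3 F q) ∨
    (∃ (F₀ : Subfield F) (r : ℕ) (P : GL (Fin 3) F), r.Prime ∧ Odd r ∧ Fintype.card F = Nat.card F₀ ^ r ∧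
      IsFormRationalStructure (Cfsg.hermForm 3 F q) F₀ 1 P ∧ H = subfieldSubgroup F₀ P ⊓ SUg 3 F q) ∨
    (Odd q ∧ 7 ≤ q ∧ ∃ (F₀ : Subfield F) (P : GL (Fin 3) F), Fintype.card F = Nat.card F₀ ^ 2 ∧
      IsFormRationalStructure (Cfsg.hermForm 3 F q) F₀ 1 P ∧ H = subfieldSubgroup F₀ P ⊓ SUg 3 F q) ∨
    (∃ (p : ℕ) (R : Subgroup (GL (Fin 3) F)), p.Prime ∧ q = p ∧ p % 3 = 2 ∧ 11 ≤ p ∧ IsSymplecticTypeGroup 3 R ∧
      ActsAbsolutelyIrreducibly (matrixSet R) ∧ R ≤ similarityGroup (Cfsg.hermForm 3 F q) ∧ Nat.card R = 27 ∧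
      Nat.card (Subgroup.center R) = 3 ∧ H = subgroupNormalizer R ⊓ SUg 3 F q) ∨
    InUnitaryResidualClass H := by
  classical
  obtain ⟨σ, hq⟩ := exists_isQPow hF
  have fin : ∀ M : Subgroup (GL (Fin 3) F), H ≤ M → ¬ SUg 3 F q ≤ M → H = M ⊓ SUg 3 F q :=
    fun M hle hnot => ((hH.2 _ (le_inf hle hH.1.le) inf_le_right).resolve_right
      fun e => hnot (inf_eq_right.1 e)).symm
  rcases unitary_host hq hF le_rfl H (hH.1.le.trans inf_le_left) with
    ⟨W, h0, hts, hle⟩ | ⟨W, h0, hnd, h2, hle⟩ | ⟨t, m, D, hD, htm, hle⟩ | ⟨k, D, hk, -, -, -⟩ |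
    ⟨r, K, hr, -, hrn, hK, hKa, hle⟩ | ⟨d, k, e, P, hd, hdk, hn', -, -⟩ | ⟨F₀, r, P, hr, hc, hrat, hle⟩ |
    ⟨r, R, hr, hR, hle⟩ | ⟨d, t, e, P, hd, ht, hn', -, -, -⟩ | h
  · exact .inl ⟨W, h0, hts, fin _ hle (Asch.not_SU_le_subspaceStabilizer hq hF (by norm_num) h0
      (Asch.ne_top_of_totallySingular hq (by norm_num) hts))⟩
  · refine .inr <| .inl ⟨W, h0, hnd, h2, fin _ hle (Asch.not_SU_le_subspaceStabilizer hq hF (by norm_num) h0 fun e => ?_)⟩
    rw [e, finrank_top, Module.finrank_pi, Fintype.card_fin] at h2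
    omega
  · have htwo := hD.decomp.two_le
    have hmpos := hD.decomp.pos
    obtain ⟨rfl, rfl⟩ : t = 3 ∧ m = 1 := by
      have : t ≤ 3 := by
        rw [← htm]
        exact Nat.le_mul_of_pos_right t hmpos
      interval_cases t <;> omega
    by_cases h5 : q = 5
    · subst h5
      exact (lines_five_not_maximal hF hD hH hle).elim
    · exact .inr <| .inr <| .inl ⟨h5, D, hD, fin _ hle (not_SU_le_lines hq hF h3q hD)⟩
  · omega
  · obtain rfl : r = 3 := (Nat.prime_dvd_prime_iff_eq hr Nat.prime_three).1 hrn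
    by_cases h3 : q = 3
    · subst h3
      obtain ⟨s, hs⟩ := exists_root hq hF (Or.inl rfl)
      exact (field_not_maximal hq hF (Or.inl rfl) hs fieldThree_ok fieldData_three fieldKeep_three fieldOut_three hK hKa
        hH hle).elim
    by_cases h5 : q = 5
    · subst h5
      obtain ⟨s, hs⟩ := exists_root hq hF (Or.inr rfl)
      exact (field_not_maximal hq hF (Or.inr rfl) hs fieldFive_ok fieldData_five fieldKeep_five fieldOut_five hK hKa
        hH hle).elim
    exact .inr <| .inr <| .inr <| .inl ⟨h3, h5, K, hK, hKa, fin _ hle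
      (Asch.not_SU_le_subalgebraNormalizer hq hF le_rfl hK (by norm_num))⟩
  · exfalso
    have h2 : 2 * k ≤ 3 := by
      rw [← hn']
      exact Nat.mul_le_mul_right k hd
    omega
  · have hnot := not_SU_le_subfield hq hF (Asch.ne_top_of_index hr hc) P
    rcases IsHermRational.cases F hc hrat with ⟨hro, h⟩ | ⟨hqo, hc2, h⟩ | ⟨hev, -⟩
    · exact .inr <| .inr <| .inr <| .inr <| .inl ⟨F₀, r, P, hr, hro, hc, h, fin _ hle hnot⟩
    · by_cases h7 : 7 ≤ q
      · exact .inr <| .inr <| .inr <| .inr <| .inr <| .inl ⟨hqo, h7, F₀, P, hc2, h, fin _ hle hnot⟩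
      obtain rfl | rfl : q = 3 ∨ q = 5 := by
        obtain ⟨j, rfl⟩ := hqo
        omega
      · obtain ⟨s, hs⟩ := exists_root hq hF (Or.inl rfl)
        exact (rational_not_maximal hq hF hs ratThree_ok ratKeep_three ratOut_three hc2 h hH hle).elim
      · obtain ⟨s, hs⟩ := exists_root hq hF (Or.inr rfl)
        exact (rational_not_maximal hq hF hs ratFive_ok ratKeep_five ratOut_five hc2 h hH hle).elim
    · exact absurd hev (by decide)
  · have hR' := hR
    obtain ⟨p', a, k, hp', hchar, hq', -, hk, hn, -, -, hRU, -, -, -⟩ := hR'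
    obtain rfl : r = 3 := (Nat.prime_dvd_prime_iff_eq hr Nat.prime_three).1 (hn ▸ dvd_pow_self r (by omega))
    obtain ⟨p, hp, rfl, hmod, hst, habs, hsim, hz, j, hj, hcard⟩ := hR.three
    obtain rfl : j = 1 := Nat.pow_right_injective (by norm_num) (hj.symm.trans (pow_one 3).symm)
    obtain ⟨rfl, -⟩ := (Nat.Prime.pow_eq_iff hp).1 hq'.symm
    haveI : CharP F p' := hchar
    have h27 : Nat.card R = 27 := by rw [hcard]; norm_num
    have h5 : 5 ≤ p' := by
      by_contra hlt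
      interval_cases p' <;> first | omega | (norm_num at hp)
    by_cases h11 : 11 ≤ p'
    · exact .inr <| .inr <| .inr <| .inr <| .inr <| .inr <| .inl ⟨p', R, hp, rfl, hmod, h11, hst, habs, hsim, h27, hz,
        fin _ hle (not_SU_le_symp hq hF hp h5 hmod h27 habs)⟩
    obtain rfl : p' = 5 := by interval_cases p' <;> first | omega | (norm_num at hp)
    obtain ⟨s, hs⟩ := exists_root hq hF (Or.inr rfl)
    refine (heis_five_not_maximal hq hF hs hRU h27 (by rw [hst.exponent_eq]; rfl) (fun hc => ?_) hH hle).elim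
    obtain ⟨x, hx, y, hy, hxy⟩ := Asch.not_abelian_of_absIrred habs
    exact hxy (congrArg Subtype.val (hc.1.1 ⟨x, hx⟩ ⟨y, hy⟩))
  · exfalso
    have h9 : 3 ^ 2 ≤ d ^ t :=
      (Nat.pow_le_pow_right (by norm_num) ht).trans (Nat.pow_le_pow_left hd t)
    omega
  · exact .inr <| .inr <| .inr <| .inr <| .inr <| .inr <| .inr h

end CfsgLib.Geo.AschThree
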